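import Cfsg.Agent.FGSB.Rudvalis.Nondegenerate

/-!
A 2-group of Rudvalis type has no nontrivial automorphism of odd order.
-/

set_option autoImplicit false
set_option linter.unusedSectionVars false
set_option linter.style.haveILetI false

namespace CfsgLib.Rudvalis

open Subgroup
open scoped commutatorElement

variable {T : Type*} [Group T] [Finite T] {W : Subgroup T}

theorem fix_of_shift (hT : IsPGroup 2 T) (φ : MulAut T) {n : ℕ} (hn : Odd n) (hφ : φ ^ n = 1)
    {x d : T} (hx : φ x = x * d) (hd : φ d = d) : φ x = x := by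
  have key : ∀ k, (φ ^ k) x = x * d ^ k := by
    intro k
    induction k with
    | zero => simp
    | succ k ih =>
      rw [pow_succ', MulAut.mul_apply, ih, map_mul, map_pow, hx, hd, mul_assoc, ← pow_succ']
  have h1 := key n
  rw [hφ, MulAut.one_apply, left_eq_mul] at h1
  obtain ⟨k, hk⟩ := hT d
  have h2 : orderOf d = 1 := Nat.eq_one_of_dvd_coprimes
    ((Nat.coprime_two_right.2 hn).pow_right k) (orderOf_dvd_of_pow_eq_one h1)
    (orderOf_dvd_of_pow_eq_one hk)
  rw [hx, orderOf_eq_one_iff.1 h2, mul_one]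

theorem Rud.aut_eq_one (h : Rud W) (φ : MulAut T) {n : ℕ} (hn : Odd n) (hφ : φ ^ n = 1) :
    φ = 1 := by
  classical
  haveI := h.normal
  have hZ : ∀ (i : ℕ) (x : T), x ∈ Subgroup.upperCentralSeries T i →
      φ x ∈ Subgroup.upperCentralSeries T i := fun i x hx => by
    have := (inferInstance : (Subgroup.upperCentralSeries T i).Characteristic).fixed φ
    rw [← this] at hx
    exact hx
  have hfix : ∀ i ≤ 3, ∀ x ∈ Subgroup.upperCentralSeries T i, φ x = x := by
    intro i
    induction i with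
    | zero =>
      intro _ x hx
      rw [Subgroup.upperCentralSeries_zero, mem_bot] at hx
      rw [hx, map_one]
    | succ i ih =>
      intro hi x hx
      by_cases hxi : x ∈ Subgroup.upperCentralSeries T i
      · exact ih (by omega) x hxi
      have h1 : φ x ∉ Subgroup.upperCentralSeries T i := fun hm => hxi (by
        have := (inferInstance : (Subgroup.upperCentralSeries T i).Characteristic).fixed φ
        rw [← this]; exact hm)
      have h2 := h.ucs_step (by omega : i < 4) hx (hZ _ x hx) hxi h1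
      exact fix_of_shift h.pgroup φ hn hφ (mul_inv_cancel_left x (φ x)).symm (ih (by omega) _ h2)
  have hWφ : ∀ w ∈ W, φ w ∈ W := by
    intro w hw
    refine (SetLike.ext_iff.1 h.w_eq _).2 (mem_centralizer_iff.2 fun a ha => ?_)
    have h1 := mem_centralizer_iff.1 ((SetLike.ext_iff.1 h.w_eq _).1 hw) a ha
    have h2 := congrArg φ h1
    rwa [map_mul, map_mul, hfix 3 le_rfl a ha] at h2
  have hWpow : ∀ (k : ℕ), ∀ w ∈ W, (φ ^ k) w ∈ W := by
    intro k
    induction k with
    | zero => simp
    | succ k ih => intro w hw; rw [pow_succ', MulAut.mul_apply]; exact hWφ _ (ih w hw)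
  obtain ⟨Fr⟩ := h.nonempty_frame
  have hcc : ∀ t, Fr.cc (φ t) = Fr.cc t := fun t => actC_inj _ _ fun v => Fr.E_inj (by
    have h1 := congrArg φ (Fr.cc_conj t v)
    rw [map_mul, map_mul, map_inv, hfix 3 le_rfl _ (Fr.E_mem _), hfix 3 le_rfl _ (Fr.E_mem _),
      Fr.cc_conj] at h1
    exact h1)
  obtain ⟨μ, hμ⟩ := h.exists_fun (le_refl 3) h.phi_eq
  let ν : T → ZMod 2 := fun w => ∑ i ∈ Finset.range n, μ ((φ ^ i) w)
  have hphi : ∀ (k : ℕ), ∀ a ∈ Subgroup.upperCentralSeries T 3, (φ ^ k) a = a := by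
    intro k a ha
    induction k with
    | zero => simp
    | succ k ih => rw [pow_succ', MulAut.mul_apply, ih, hfix 3 le_rfl a ha]
  have hν : IsFun W 3 ν := by
    refine ⟨fun a ha b hb => ?_, fun a ha => ?_, fun z hz hz' => ?_⟩
    · simp only [ν, map_mul]
      rw [← Finset.sum_add_distrib]
      exact Finset.sum_congr rfl fun i _ => hμ.add _ (hWpow i a ha) _ (hWpow i b hb)
    · refine Finset.sum_eq_zero fun i _ => ?_
      rw [hphi i a (h.phi_eq ▸ ha)]
      exact hμ.zero a ha
    · have h1 : ∀ i, μ ((φ ^ i) z) = 1 := by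
        intro i
        refine hμ.fixed _ ?_ fun hm => hz' ?_
        · have := (inferInstance :
            (Subgroup.upperCentralSeries T (3 + 1)).Characteristic).fixed (φ ^ i)
          rw [← this] at hz
          exact hz
        · have h2 := hphi i _ (h.phi_eq ▸ hm)
          have h3 : (φ ^ i) z = z := (φ ^ i).injective h2
          rwa [h3] at hm
      simp only [ν, h1, Finset.sum_const, Finset.card_range, nsmul_one]
      obtain ⟨m, rfl⟩ := hn
      simp [show (2 : ZMod 2) = 0 from rfl]
  have hνφ : ∀ x, ν (φ x) = ν x := by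
    intro x
    simp only [ν]
    obtain ⟨m, rfl⟩ := hn
    have e : ∀ i, μ ((φ ^ i) (φ x)) = μ ((φ ^ (i + 1)) x) := fun i => by
      rw [pow_succ, MulAut.mul_apply]
    simp only [e]
    rw [Finset.sum_range_succ, hφ, MulAut.one_apply,
      Finset.sum_range_succ' (fun i => μ ((φ ^ i) x)) (2 * m)]
    simp
  have hfixW : ∀ w ∈ W, φ w = w := by
    intro w hw
    have hp : w⁻¹ * φ w ∈ phi W := by
      refine h.mem_phi_of_coord Fr hν (mul_mem (inv_mem hw) (hWφ w hw)) ?_
      rw [h.coord_add Fr hν (inv_mem hw) (hWφ w hw), h.coord_inv Fr hν hw]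
      funext c
      have hu : (φ⁻¹ (Fr.rep c))⁻¹ * Fr.rep c ∈ W := (Fr.cc_eq _ _).1 (by
        have := hcc (φ⁻¹ (Fr.rep c))
        rw [MulAut.apply_inv_self] at this
        exact this.symm)
      have h1 := h.fun_conj hν hw (φ⁻¹ (Fr.rep c)) hu
      rw [mul_inv_cancel_left] at h1
      have h2 : coord Fr ν (φ w) c = coord Fr ν w c := by
        simp only [coord]
        rw [h1, ← hνφ (φ⁻¹ (Fr.rep c) * w * (φ⁻¹ (Fr.rep c))⁻¹), map_mul, map_mul, map_inv φ,
          MulAut.apply_inv_self]
      rw [Pi.add_apply, h2]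
      exact CharTwo.add_self_eq_zero _
    exact fix_of_shift h.pgroup φ hn hφ (mul_inv_cancel_left w (φ w)).symm
      (hfix 3 le_rfl _ (h.phi_eq ▸ hp))
  ext t
  have hd : t⁻¹ * φ t ∈ W := (Fr.cc_eq _ _).1 (hcc t).symm
  exact fix_of_shift h.pgroup φ hn hφ (mul_inv_cancel_left t (φ t)).symm (hfixW _ hd)

end CfsgLib.Rudvalis
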