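import Mathlib.GroupTheory.Index
import Mathlib.GroupTheory.Commutator.Basic
import Mathlib.GroupTheory.PGroup
import Mathlib.GroupTheory.Frattini

/-!
2-groups with central `Z`, squares in `Z`, in which every subgroup of index at most 16 contains `Z`:
no alternating form induced by a hyperplane of `Z` has a large radical.
-/

set_option autoImplicit false
set_option linter.unusedSectionVars false

namespace CfsgLib.Rudvalis

open Subgroup
open scoped commutatorElement

variable {G : Type*} [Group G] [Finite G]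

/-- A relative index two criterion in terms of orders. -/
theorem card_le_two_mul {A S : Subgroup G} (h : ∀ a ∈ A, ∀ b ∈ A, a ∉ S → b ∉ S → a⁻¹ * b ∈ S) :
    Nat.card A ≤ 2 * Nat.card S := by
  classical
  by_cases hA : A ≤ S
  · have := card_le_of_le hA
    omega
  obtain ⟨a, ha, haS⟩ := SetLike.not_le_iff_exists.1 hA
  let f : A → Bool × S := fun x =>
    if hx : (x : G) ∈ S then (false, ⟨x, hx⟩) else (true, ⟨a⁻¹ * x, h a ha x x.2 haS hx⟩)
  have hf : Function.Injective f := by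
    intro x y hxy
    simp only [f] at hxy
    split at hxy <;> split at hxy <;> simp at hxy <;> exact hxy
  have := Nat.card_le_card_of_injective f hf
  rw [Nat.card_prod, Nat.card_eq_fintype_card (α := Bool), Fintype.card_bool] at this
  exact this

/-- Hypotheses: `Z` is central, contains commutators and squares, and lies in every subgroup of
index at most 16. -/
structure Quad (Z : Subgroup G) : Prop where
  central : ∀ z ∈ Z, ∀ g : G, z * g = g * z
  comm : ∀ a b : G, ⁅a, b⁆ ∈ Z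
  sq : ∀ a : G, a ^ 2 ∈ Z
  thin : ∀ U : Subgroup G, U.index ≤ 16 → Z ≤ U

variable {Z : Subgroup G}

theorem Quad.comm_mul_right (H : Quad Z) (a b c : G) : ⁅a, b * c⁆ = ⁅a, b⁆ * ⁅a, c⁆ := by
  have h := H.central _ (H.comm a c) b
  calc ⁅a, b * c⁆ = ⁅a, b⁆ * (b * ⁅a, c⁆ * b⁻¹) := by simp only [commutatorElement_def]; group
    _ = _ := by rw [← h, mul_inv_cancel_right]

theorem Quad.comm_mul_left (H : Quad Z) (a b c : G) : ⁅a * b, c⁆ = ⁅a, c⁆ * ⁅b, c⁆ := by
  have h := H.central _ (H.comm b c) a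
  have h2 := H.central _ (H.comm a c) ⁅b, c⁆
  calc ⁅a * b, c⁆ = (a * ⁅b, c⁆ * a⁻¹) * ⁅a, c⁆ := by simp only [commutatorElement_def]; group
    _ = _ := by rw [← h, mul_inv_cancel_right, h2]

/-- The elements whose commutators with `S` lie in `N`. -/
def Quad.perp (H : Quad Z) (N : Subgroup G) (S : Set G) : Subgroup G where
  carrier := {y | ∀ s ∈ S, ⁅s, y⁆ ∈ N}
  one_mem' := fun s _ => by simp
  mul_mem' := fun {a b} ha hb s hs => by
    rw [H.comm_mul_right]; exact N.mul_mem (ha s hs) (hb s hs)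
  inv_mem' := fun {a} ha s hs => by
    have h1 := H.comm_mul_right s a a⁻¹
    rw [mul_inv_cancel, commutatorElement_one_right] at h1
    rw [eq_inv_of_mul_eq_one_right h1.symm]
    exact N.inv_mem (ha s hs)

theorem Quad.closure_isotropic (H : Quad Z) (N : Subgroup G) {S : Set G}
    (hS : ∀ s ∈ S, ∀ t ∈ S, ⁅s, t⁆ ∈ N) :
    ∀ a ∈ closure S, ∀ b ∈ closure S, ⁅a, b⁆ ∈ N := by
  have h1 : closure S ≤ H.perp N S := (closure_le _).2 fun t ht s hs => hS s hs t ht
  have h2 : closure S ≤ H.perp N (closure S : Set G) := by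
    refine (closure_le _).2 fun t ht s hs => ?_
    have := h1 hs t ht
    rw [← commutatorElement_inv]
    exact N.inv_mem this
  exact fun a ha b hb => h2 hb a ha

theorem Quad.no_singular (H : Quad Z) (N U₀ : Subgroup G) {z : G} (hzZ : z ∈ Z) (hzN : z ∉ N)
    (hNU : N ≤ U₀) (hzU : z ∈ U₀) (hsq : ∀ u ∈ U₀, u ^ 2 ∈ N)
    (hidx : U₀.index ≤ 8) : False := by
  obtain ⟨U, hU⟩ := (Set.toFinite {U : Subgroup G | N ≤ U ∧ U ≤ U₀ ∧ z ∉ U}).exists_maximal
    ⟨N, le_rfl, hNU, hzN⟩
  obtain ⟨hNU', hUU, hzU'⟩ := hU.prop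
  have hcomm : ∀ a ∈ U₀, ∀ b ∈ U₀, ⁅a, b⁆ ∈ N := by
    intro a ha b hb
    have e : ⁅a, b⁆ = a ^ 2 * (a⁻¹ * b) ^ 2 * (b⁻¹) ^ 2 := by
      simp only [commutatorElement_def, pow_two]; group
    rw [e]
    exact mul_mem (mul_mem (hsq a ha) (hsq _ (mul_mem (inv_mem ha) hb))) (hsq _ (inv_mem hb))
  have key : ∀ x ∈ U₀, x ∈ U ∨ z * x ∈ U := by
    intro x hx
    by_cases hxU : x ∈ U
    · exact Or.inl hxU
    have hcj : ∀ w ∈ U, x * w * x⁻¹ ∈ U := by
      intro w hw
      have e : x * w * x⁻¹ = ⁅x, w⁆ * w := by simp only [commutatorElement_def]; group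
      rw [e]; exact mul_mem (hNU' (hcomm x hx w (hUU hw))) hw
    have hcj' : ∀ w ∈ U, x⁻¹ * w * x ∈ U := by
      intro w hw
      have e : x⁻¹ * w * x = ⁅x⁻¹, w⁆ * w := by simp only [commutatorElement_def]; group
      rw [e]; exact mul_mem (hNU' (hcomm _ (inv_mem hx) w (hUU hw))) hw
    have hx2 : x * x ∈ U := hNU' (by rw [← pow_two]; exact hsq x hx)
    let U' : Subgroup G :=
      { carrier := {y | y ∈ U ∨ y * x ∈ U}
        one_mem' := Or.inl (one_mem _)
        mul_mem' := fun {a b} ha hb => by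
          rcases ha with ha | ha <;> rcases hb with hb | hb
          · exact Or.inl (mul_mem ha hb)
          · exact Or.inr (by rw [mul_assoc]; exact mul_mem ha hb)
          · refine Or.inr ?_
            have e : a * b * x = (a * x) * (x⁻¹ * b * x) := by group
            rw [e]; exact mul_mem ha (hcj' b hb)
          · refine Or.inl ?_
            have e : a * b = (a * x) * (x⁻¹ * (b * x) * x) * (x * x)⁻¹ := by group
            rw [e]; exact mul_mem (mul_mem ha (hcj' _ hb)) (inv_mem hx2)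
        inv_mem' := fun {a} ha => by
          rcases ha with ha | ha
          · exact Or.inl (inv_mem ha)
          · refine Or.inr ?_
            have e : a⁻¹ * x = x * (a * x)⁻¹ * x⁻¹ * (x * x) := by group
            rw [e]; exact mul_mem (hcj _ (inv_mem ha)) hx2 }
    have hle : U ≤ U' := fun w hw => Or.inl hw
    have hxU' : x⁻¹ ∈ U' := Or.inr (by rw [inv_mul_cancel]; exact one_mem _)
    have hU'U₀ : U' ≤ U₀ := by
      rintro y (hy | hy)
      · exact hUU hy
      · exact (mul_mem_cancel_right hx).1 (hUU hy)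
    by_cases hz' : z ∈ U'
    · rcases hz' with h | h
      · exact absurd h hzU'
      · exact Or.inr h
    · have := hU.le_of_ge (show U' ∈ {U : Subgroup G | N ≤ U ∧ U ≤ U₀ ∧ z ∉ U} from
        ⟨hNU'.trans hle, hU'U₀, hz'⟩) hle
      exact absurd (inv_mem_iff.1 (this hxU')) hxU
  have hcard : Nat.card U₀ ≤ 2 * Nat.card U := by
    refine card_le_two_mul fun a ha b hb haU hbU => ?_
    have h1 := (key a ha).resolve_left haU
    have h2 := (key b hb).resolve_left hbU
    have e : a⁻¹ * b = (z * a)⁻¹ * (z * b) := by group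
    rw [e]; exact mul_mem (inv_mem h1) h2
  have hU16 : U.index ≤ 16 := by
    have h1 := card_mul_index U
    have h2 := card_mul_index U₀
    have hpos : 0 < Nat.card U := Nat.card_pos
    have hle : Nat.card G ≤ Nat.card U * 16 := by
      rw [← h2]
      calc Nat.card U₀ * U₀.index ≤ (2 * Nat.card U) * 8 := Nat.mul_le_mul hcard hidx
        _ = _ := by ring
    rw [← h1] at hle
    exact Nat.le_of_mul_le_mul_left hle hpos
  exact hzU' (H.thin U hU16 hzZ)

/-- No hyperplane of `Z` gives a form whose radical has index at most 16. -/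
theorem Quad.no_radical (H : Quad Z) (hG : IsPGroup 2 G) (N R : Subgroup G)
    {z : G} (hzZ : z ∈ Z) (hzN : z ∉ N) (hNZ : N ≤ Z)
    (hN2 : ∀ a ∈ Z, ∀ b ∈ Z, a ∉ N → b ∉ N → a * b ∈ N)
    (hZR : Z ≤ R) (hR : R.index ≤ 16) (hrad : ∀ r ∈ R, ∀ y : G, ⁅r, y⁆ ∈ N) : False := by
  haveI : Fact (Nat.Prime 2) := ⟨Nat.prime_two⟩
  have hsymm : ∀ r ∈ R, ∀ y : G, ⁅y, r⁆ ∈ N := fun r hr y => by
    rw [← commutatorElement_inv]; exact N.inv_mem (hrad r hr y)
  have grow : ∀ {S S' : Subgroup G}, S ≤ S' → ∀ {x}, x ∈ S' → x ∉ S → 2 * S'.index ≤ S.index := by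
    intro S S' hle x hx hxS
    rw [← relIndex_mul_index hle]
    refine Nat.mul_le_mul_right _ ?_
    have h0 : (S.subgroupOf S').index ≠ 0 := index_ne_zero_of_finite
    have h1 : S.relIndex S' ≠ 1 := fun h => hxS (relIndex_eq_one.1 h hx)
    rw [relIndex] at h1 ⊢
    omega
  -- an isotropic subgroup of index at most 4 over `R`
  obtain ⟨A, hRA, hA4, hiso⟩ : ∃ A : Subgroup G, R ≤ A ∧ A.index ≤ 4 ∧
      ∀ a ∈ A, ∀ b ∈ A, ⁅a, b⁆ ∈ N := by
    by_cases h4 : R.index ≤ 4
    · exact ⟨R, le_rfl, h4, fun a ha b _ => hrad a ha b⟩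
    obtain ⟨x, hxR⟩ : ∃ x, x ∉ R := by
      by_contra h
      push Not at h
      rw [(eq_top_iff' R).2 h, index_top] at h4
      omega
    let A₁ := closure ((R : Set G) ∪ {x})
    have hiso₁ : ∀ a ∈ A₁, ∀ b ∈ A₁, ⁅a, b⁆ ∈ N := by
      refine H.closure_isotropic N ?_
      rintro s (hs | hs) t (ht | ht)
      · exact hrad s hs t
      · exact hrad s hs t
      · exact hsymm t ht s
      · rw [Set.mem_singleton_iff] at hs ht
        subst hs ht
        simp
    have hR1 : R ≤ A₁ := fun r hr => subset_closure (Or.inl hr)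
    have hx1 : x ∈ A₁ := subset_closure (Or.inr rfl)
    have h8 : 2 * A₁.index ≤ R.index := grow hR1 hx1 hxR
    by_cases h4' : A₁.index ≤ 4
    · exact ⟨A₁, hR1, h4', hiso₁⟩
    let C := H.perp N {x}
    have hC : Nat.card (⊤ : Subgroup G) ≤ 2 * Nat.card C := by
      refine card_le_two_mul fun a _ b _ ha hb => ?_
      have ha' : ⁅x, a⁆ ∉ N := fun h => ha (by rintro s rfl; exact h)
      have hb' : ⁅x, b⁆ ∉ N := fun h => hb (by rintro s rfl; exact h)
      have hai : ⁅x, a⁻¹⁆ ∉ N := fun h => ha' (by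
        have h1 := H.comm_mul_right x a a⁻¹
        rw [mul_inv_cancel, commutatorElement_one_right] at h1
        rw [eq_inv_of_mul_eq_one_left h1.symm]
        exact N.inv_mem h)
      rintro s rfl
      rw [H.comm_mul_right]
      exact hN2 _ (H.comm _ _) _ (H.comm _ _) hai hb'
    obtain ⟨y, hy, hyA⟩ : ∃ y ∈ C, y ∉ A₁ := by
      by_contra h
      push Not at h
      have hle : Nat.card C ≤ Nat.card A₁ := card_le_of_le h
      rw [card_top, ← card_mul_index A₁] at hC
      have : A₁.index ≤ 2 := by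
        have hpos : 0 < Nat.card A₁ := Nat.card_pos
        nlinarith
      omega
    let A₂ := closure ((R : Set G) ∪ {x, y})
    have hxy : ⁅x, y⁆ ∈ N := hy x rfl
    have hiso₂ : ∀ a ∈ A₂, ∀ b ∈ A₂, ⁅a, b⁆ ∈ N := by
      refine H.closure_isotropic N ?_
      have hyx : ⁅y, x⁆ ∈ N := by rw [← commutatorElement_inv]; exact N.inv_mem hxy
      rintro s (hs | hs) t (ht | ht)
      · exact hrad s hs t
      · exact hrad s hs t
      · exact hsymm t ht s
      · simp only [Set.mem_insert_iff, Set.mem_singleton_iff] at hs ht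
        rcases hs with rfl | rfl <;> rcases ht with rfl | rfl <;> simp [hxy, hyx]
    have h12 : A₁ ≤ A₂ := closure_mono (Set.union_subset_union_right _ (by simp))
    have hy2 : y ∈ A₂ := subset_closure (Or.inr (by simp))
    have h4'' := grow h12 hy2 hyA
    exact ⟨A₂, fun r hr => subset_closure (Or.inl hr), by omega, hiso₂⟩
  -- the square kernel
  have hsqmul : ∀ a ∈ A, ∀ b ∈ A, ∃ n ∈ N, (a * b) ^ 2 = a ^ 2 * b ^ 2 * n := by
    intro a ha b hb
    refine ⟨⁅b, a⁆, hiso b hb a ha, ?_⟩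
    have h := H.central _ (H.comm b a)
    calc (a * b) ^ 2 = a * (⁅b, a⁆ * a) * (b * b) := by
          simp only [pow_two, commutatorElement_def]; group
      _ = a ^ 2 * b ^ 2 * ⁅b, a⁆ := by
          rw [h a, pow_two, pow_two]
          simp only [mul_assoc]
          rw [← mul_assoc ⁅b, a⁆ b b, h b, mul_assoc b ⁅b, a⁆ b, h b]
  let U₀ : Subgroup G :=
    { carrier := {a | a ∈ A ∧ a ^ 2 ∈ N}
      one_mem' := ⟨one_mem _, by simp⟩
      mul_mem' := fun {a b} ha hb => by
        obtain ⟨n, hn, he⟩ := hsqmul a ha.1 b hb.1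
        exact ⟨mul_mem ha.1 hb.1, he ▸ mul_mem (mul_mem ha.2 hb.2) hn⟩
      inv_mem' := fun {a} ha => ⟨inv_mem ha.1, by rw [inv_pow]; exact inv_mem ha.2⟩ }
  have hcard : Nat.card A ≤ 2 * Nat.card U₀ := by
    refine card_le_two_mul fun a ha b hb hau hbu => ?_
    have ha2 : a ^ 2 ∉ N := fun h => hau ⟨ha, h⟩
    have hb2 : b ^ 2 ∉ N := fun h => hbu ⟨hb, h⟩
    have hai : a⁻¹ ^ 2 ∉ N := fun h => ha2 (by rw [inv_pow] at h; exact inv_mem_iff.1 h)
    obtain ⟨n, hn, he⟩ := hsqmul a⁻¹ (inv_mem ha) b hb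
    exact ⟨mul_mem (inv_mem ha) hb, he ▸ mul_mem (hN2 _ (H.sq _) _ (H.sq _) hai hb2) hn⟩
  have hidx : U₀.index ≤ 8 := by
    have h1 := card_mul_index U₀
    have h2 := card_mul_index A
    have hpos : 0 < Nat.card U₀ := Nat.card_pos
    have : Nat.card U₀ * U₀.index ≤ Nat.card U₀ * 8 := by
      rw [h1, ← h2]
      calc Nat.card A * A.index ≤ (2 * Nat.card U₀) * 4 := Nat.mul_le_mul hcard hA4
        _ = _ := by ring
    exact Nat.le_of_mul_le_mul_left this hpos
  have hNsq : ∀ n ∈ N, n ^ 2 ∈ N := fun n hn => pow_mem hn 2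
  have hz2 : z ^ 2 ∈ N := by
    by_contra h
    exact h (by rw [pow_two]; exact hN2 z hzZ z hzZ hzN hzN)
  exact H.no_singular N U₀ hzZ hzN (fun n hn => ⟨hRA (hZR (hNZ hn)), hNsq n hn⟩)
    ⟨hRA (hZR hzZ), hz2⟩ (fun u hu => hu.2) hidx

end CfsgLib.Rudvalis
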