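import Cfsg.Agent.FGSB.Rudvalis.Uniserial
import Cfsg.Agent.FGSB.Rudvalis.Quadratic
import Cfsg.Agent.Solvable.PGroupBasic
import Mathlib.Data.ZMod.Basic
import Mathlib.GroupTheory.QuotientGroup.Basic

/-!
2-groups of Rudvalis type: `W = C_T(Z_3(T))` modulo its Frattini subgroup is the regular module of
`T/W`.
-/

set_option autoImplicit false
set_option linter.unusedSectionVars false
set_option linter.style.haveILetI false

namespace CfsgLib.Rudvalis

open Subgroup
open scoped commutatorElement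

variable {T : Type*} [Group T] [Finite T]

/-- The hypotheses. -/
structure Rud (W : Subgroup T) : Prop where
  pgroup : IsPGroup 2 T
  big : 2 ^ 14 ≤ Nat.card T
  four : Nat.card ↥(Subgroup.upperCentralSeries T 4) = 16
  w_eq : W = Subgroup.centralizer ((Subgroup.upperCentralSeries T 3 : Subgroup T) : Set T)
  small : Nat.card ↥(frattini ↥W) ≤ 8
  thin : ∀ U : Subgroup ↥W, U.index ≤ 16 → frattini ↥W ≤ U

variable {W : Subgroup T}

/-- The Frattini subgroup of `W` as a subgroup of `T`. -/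
def phi (W : Subgroup T) : Subgroup T := (frattini ↥W).map W.subtype

theorem phi_le (W : Subgroup T) : phi W ≤ W := map_subtype_le _

theorem mem_phi_iff {a : T} (ha : a ∈ W) : a ∈ phi W ↔ (⟨a, ha⟩ : ↥W) ∈ frattini ↥W := by
  refine ⟨?_, fun h => ⟨_, h, rfl⟩⟩
  rintro ⟨b, hb, rfl⟩
  exact hb

theorem Rud.big' (h : Rud W) : 16 < Nat.card T := lt_of_lt_of_le (by norm_num) h.big

theorem Rud.normal (h : Rud W) : W.Normal := by
  refine ⟨fun n hn t => ?_⟩
  rw [h.w_eq, mem_centralizer_iff] at hn ⊢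
  intro m hm
  have hm' : t⁻¹ * m * t ∈ Subgroup.upperCentralSeries T 3 := by
    have := (inferInstance : (Subgroup.upperCentralSeries T 3).Normal).conj_mem m hm t⁻¹
    simpa using this
  have h1 := hn _ hm'
  calc m * (t * n * t⁻¹) = t * ((t⁻¹ * m * t) * n) * t⁻¹ := by group
    _ = t * n * t⁻¹ * m := by rw [h1]; group

theorem Rud.phi_normal (h : Rud W) : (phi W).Normal := by
  haveI := h.normal
  exact inferInstanceAs ((frattini ↥W).map W.subtype).Normal

theorem Rud.card_ucs (h : Rud W) :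
    ∀ i ≤ 4, Nat.card ↥(Subgroup.upperCentralSeries T i) = 2 ^ i :=
  CfsgLib.Rudvalis.card_ucs h.pgroup h.big' h.four

theorem Rud.exists_phi_eq (h : Rud W) :
    ∃ i ≤ 3, phi W = Subgroup.upperCentralSeries T i := by
  haveI := h.phi_normal
  haveI : Fact (Nat.Prime 2) := ⟨Nat.prime_two⟩
  obtain ⟨i, hi⟩ := IsPGroup.iff_card.1 (h.pgroup.to_subgroup (phi W))
  have h8 : 2 ^ i ≤ 2 ^ 3 := by
    rw [← hi, phi, card_map_of_injective W.subtype_injective]
    exact h.small
  have hi3 : i ≤ 3 := (Nat.pow_le_pow_iff_right (le_refl 2)).1 h8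
  exact ⟨i, hi3, eq_of_le_of_card_ge (le_ucs_of_card_le h.pgroup i _ inferInstance hi.le)
    (by rw [hi, h.card_ucs i (by omega)])⟩

theorem Rud.comm_phi (h : Rud W) {a z : T} (ha : a ∈ W) (hz : z ∈ phi W) : z * a = a * z := by
  obtain ⟨i, hi, he⟩ := h.exists_phi_eq
  rw [h.w_eq, mem_centralizer_iff] at ha
  exact ha z (Subgroup.upperCentralSeries_mono T hi (he ▸ hz))

theorem Rud.commutator_mem_phi (h : Rud W) {a b : T} (ha : a ∈ W) (hb : b ∈ W) :
    ⁅a, b⁆ ∈ phi W := by
  haveI : Fact (Nat.Prime 2) := ⟨Nat.prime_two⟩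
  refine ⟨⁅(⟨a, ha⟩ : ↥W), ⟨b, hb⟩⁆, ?_, rfl⟩
  exact (CfsgLib.PGroupBasic.commutator_pow_le_frattini (h.pgroup.to_subgroup W)).1
    (Subgroup.commutator_mem_commutator (mem_top _) (mem_top _))

theorem Rud.sq_mem_phi (h : Rud W) {a : T} (ha : a ∈ W) : a ^ 2 ∈ phi W := by
  haveI : Fact (Nat.Prime 2) := ⟨Nat.prime_two⟩
  exact ⟨(⟨a, ha⟩ : ↥W) ^ 2,
    (CfsgLib.PGroupBasic.commutator_pow_le_frattini (h.pgroup.to_subgroup W)).2 _, rfl⟩

theorem Rud.ucs_step (h : Rud W) {i : ℕ} (hi : i < 4) {a b : T}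
    (ha : a ∈ Subgroup.upperCentralSeries T (i + 1)) (hb : b ∈ Subgroup.upperCentralSeries T (i + 1))
    (ha' : a ∉ Subgroup.upperCentralSeries T i) (hb' : b ∉ Subgroup.upperCentralSeries T i) :
    a⁻¹ * b ∈ Subgroup.upperCentralSeries T i := by
  let Z := (Subgroup.upperCentralSeries T i).subgroupOf (Subgroup.upperCentralSeries T (i + 1))
  have hle : Subgroup.upperCentralSeries T i ≤ Subgroup.upperCentralSeries T (i + 1) :=
    Subgroup.upperCentralSeries_mono T (Nat.le_succ i)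
  have hc : Nat.card Z = 2 ^ i := by
    rw [Nat.card_congr (subgroupOfEquivOfLe hle).toEquiv, h.card_ucs i (by omega)]
  have hidx : Z.index = 2 := by
    have h1 := card_mul_index Z
    rw [hc, h.card_ucs (i + 1) hi, pow_succ] at h1
    exact Nat.eq_of_mul_eq_mul_left (pow_pos two_pos i) h1
  have := (mul_mem_iff_of_index_two hidx (a := (⟨a, ha⟩ : _)⁻¹) (b := ⟨b, hb⟩)).2
    (by simp only [inv_mem_iff, Z, mem_subgroupOf]; exact ⟨fun h => absurd h ha', fun h => absurd h hb'⟩)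
  exact this

theorem Rud.exists_gen (h : Rud W) {i : ℕ} (hi : i < 4) :
    ∃ e ∈ Subgroup.upperCentralSeries T (i + 1), e ∉ Subgroup.upperCentralSeries T i := by
  by_contra hc
  push Not at hc
  have h1 := card_le_of_le (H := Subgroup.upperCentralSeries T (i + 1)) hc
  rw [h.card_ucs (i + 1) hi, h.card_ucs i (by omega), pow_succ] at h1
  have := pow_pos (two_pos : 0 < 2) i
  omega

theorem Rud.index_le (h : Rud W) : W.index ≤ 8 := by
  obtain ⟨e2, he2, he2'⟩ := h.exists_gen (i := 1) (by norm_num)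
  obtain ⟨e3, he3, he3'⟩ := h.exists_gen (i := 2) (by norm_num)
  have hm : ∀ (n : ℕ) (e : T), e ∈ Subgroup.upperCentralSeries T (n + 1) → ∀ t : T,
      ⁅e, t⁆ ∈ Subgroup.upperCentralSeries T n := fun n e he t =>
    Subgroup.mem_upperCentralSeries_succ_iff.1 he t
  let f : T ⧸ W → ↥(Subgroup.upperCentralSeries T 2) × ↥(Subgroup.upperCentralSeries T 1) :=
    fun q => (⟨⁅e3, q.out⁆, hm 2 e3 he3 _⟩, ⟨⁅e2, q.out⁆, hm 1 e2 he2 _⟩)
  have hf : Function.Injective f := by
    intro p q hpq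
    simp only [f, Prod.mk.injEq, Subtype.mk.injEq] at hpq
    have key : ∀ e : T, ⁅e, p.out⁆ = ⁅e, q.out⁆ → Commute (p.out⁻¹ * q.out) e := by
      intro e he
      rw [commutatorElement_def, commutatorElement_def] at he
      have h1 : p.out * e⁻¹ * p.out⁻¹ = q.out * e⁻¹ * q.out⁻¹ := by
        have := congrArg (e⁻¹ * ·) he
        simpa [mul_assoc] using this
      have h2 : Commute (p.out⁻¹ * q.out) e⁻¹ := by
        calc p.out⁻¹ * q.out * e⁻¹ = p.out⁻¹ * (q.out * e⁻¹ * q.out⁻¹) * q.out := by group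
          _ = _ := by rw [← h1]; group
      simpa using h2.inv_right
    have hu : p.out⁻¹ * q.out ∈ W := by
      refine (SetLike.ext_iff.1 h.w_eq _).2 ?_
      rw [mem_centralizer_iff]
      have c1 : ∀ z ∈ Subgroup.upperCentralSeries T 1, Commute (p.out⁻¹ * q.out) z := fun z hz => by
        rw [Subgroup.upperCentralSeries_one] at hz
        exact mem_center_iff.1 hz _
      have c2 : ∀ z ∈ Subgroup.upperCentralSeries T 2, Commute (p.out⁻¹ * q.out) z := fun z hz => by
        by_cases hz1 : z ∈ Subgroup.upperCentralSeries T 1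
        · exact c1 z hz1
        · have := c1 _ (h.ucs_step (by norm_num) he2 hz he2' hz1)
          simpa using (key e2 hpq.2).mul_right this
      intro z hz
      by_cases hz2 : z ∈ Subgroup.upperCentralSeries T 2
      · exact (c2 z hz2).eq.symm
      · have := c2 _ (h.ucs_step (by norm_num) he3 hz he3' hz2)
        have h3 := (key e3 hpq.1).mul_right this
        rw [mul_inv_cancel_left] at h3
        exact h3.eq.symm
    rw [← QuotientGroup.out_eq' p, ← QuotientGroup.out_eq' q]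
    exact QuotientGroup.eq.2 hu
  have := Nat.card_le_card_of_injective f hf
  rw [Nat.card_prod, h.card_ucs 2 (by norm_num), h.card_ucs 1 (by norm_num),
    ← index_eq_card] at this
  exact this

theorem Rud.phi_lt (h : Rud W) : phi W < W := by
  refine lt_of_le_of_ne (phi_le W) fun he => ?_
  have h1 := card_mul_index W
  have h2 : Nat.card W ≤ 8 := by
    conv_lhs => rw [← he, phi, card_map_of_injective W.subtype_injective]
    exact h.small
  have h3 := Nat.mul_le_mul h2 h.index_le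
  have h4 := h.big
  omega

theorem Rud.ucs_succ_le (h : Rud W) {i : ℕ} (hi : i ≤ 3) (he : phi W = Subgroup.upperCentralSeries T i)
    (N : Subgroup T) [N.Normal] (hN : phi W < N) :
    Subgroup.upperCentralSeries T (i + 1) ≤ N :=
  succ_le_of_lt h.pgroup h.big' h.four (by omega) N (he ▸ hN)

/-- A linear functional on `W / Φ(W)` that does not vanish on the fixed point. -/
structure IsFun (W : Subgroup T) (i : ℕ) (μ : T → ZMod 2) : Prop where
  add : ∀ a ∈ W, ∀ b ∈ W, μ (a * b) = μ a + μ b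
  zero : ∀ a ∈ phi W, μ a = 0
  fixed : ∀ z ∈ Subgroup.upperCentralSeries T (i + 1), z ∉ phi W → μ z = 1

theorem Rud.exists_fun (h : Rud W) {i : ℕ} (hi : i ≤ 3)
    (he : phi W = Subgroup.upperCentralSeries T i) : ∃ μ, IsFun W i μ := by
  classical
  haveI := h.normal
  haveI : Fact (Nat.Prime 2) := ⟨Nat.prime_two⟩
  obtain ⟨z, hz, hz'⟩ := h.exists_gen (i := i) (by omega)
  have hle := h.ucs_succ_le hi he W h.phi_lt
  have hzphi : z ∉ phi W := he ▸ hz'
  obtain ⟨M, hM, hzM⟩ : ∃ M : Subgroup ↥W, IsCoatom M ∧ (⟨z, hle hz⟩ : ↥W) ∉ M := by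
    by_contra hc
    push Not at hc
    refine hzphi ((mem_phi_iff (hle hz)).2 ?_)
    rw [frattini, Order.radical]
    simp only [mem_iInf]
    exact hc
  have hidx := (CfsgLib.PGroupBasic.coatom_normal_index (h.pgroup.to_subgroup W) hM).2
  have hadd : ∀ a ∈ W, ∀ b ∈ W, (if a * b ∈ M.map W.subtype then (0 : ZMod 2) else 1) =
      (if a ∈ M.map W.subtype then 0 else 1) + (if b ∈ M.map W.subtype then 0 else 1) := by
    intro a ha b hb
    have hiff : ∀ c (hc : c ∈ W), (c ∈ M.map W.subtype ↔ (⟨c, hc⟩ : ↥W) ∈ M) := fun c hc =>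
      ⟨by rintro ⟨d, hd, rfl⟩; exact hd, fun h => ⟨_, h, rfl⟩⟩
    have h2 := mul_mem_iff_of_index_two hidx (a := (⟨a, ha⟩ : ↥W)) (b := ⟨b, hb⟩)
    simp only [hiff a ha, hiff b hb, hiff (a * b) (mul_mem ha hb)]
    rw [show (⟨a * b, mul_mem ha hb⟩ : ↥W) = ⟨a, ha⟩ * ⟨b, hb⟩ from rfl]
    by_cases p : (⟨a, ha⟩ : ↥W) ∈ M <;> by_cases q : (⟨b, hb⟩ : ↥W) ∈ M
    · rw [if_pos (mul_mem p q), if_pos p, if_pos q]; decide
    · rw [if_neg (fun hm => q ((mul_mem_cancel_left p).1 hm)), if_pos p, if_neg q]; decide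
    · rw [if_neg (fun hm => p ((mul_mem_cancel_right q).1 hm)), if_neg p, if_pos q]; decide
    · rw [if_pos (h2.2 (iff_of_false p q)), if_neg p, if_neg q]; decide
  refine ⟨fun a => if a ∈ M.map W.subtype then 0 else 1, hadd, ?_, ?_⟩
  · rintro a ⟨b, hb, rfl⟩
    exact if_pos ⟨b, frattini_le_coatom hM hb, rfl⟩
  · intro y hy hy'
    refine if_neg ?_
    rintro ⟨b, hb, hby⟩
    have h1 := h.ucs_step (by omega : i < 4) hy hz (he ▸ hy') hz'
    rw [← he, mem_phi_iff (mul_mem (inv_mem (hle hy)) (hle hz))] at h1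
    have h2 := mul_mem hb (frattini_le_coatom hM h1)
    refine hzM ?_
    convert h2 using 1
    apply Subtype.ext
    simp [← hby]

theorem Rud.fun_conj (h : Rud W) {i : ℕ} {μ : T → ZMod 2} (hμ : IsFun W i μ) {w : T} (hw : w ∈ W)
    (t : T) {u : T} (hu : u ∈ W) :
    μ (t * u * w * (t * u)⁻¹) = μ (t * w * t⁻¹) := by
  haveI := h.normal
  haveI := h.phi_normal
  have h1 : t * ⁅u, w⁆ * t⁻¹ ∈ phi W := h.phi_normal.conj_mem _ (h.commutator_mem_phi hu hw) t
  rw [show t * u * w * (t * u)⁻¹ = (t * ⁅u, w⁆ * t⁻¹) * (t * w * t⁻¹) by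
      simp only [commutatorElement_def]; group,
    hμ.add _ (phi_le W h1) _ (h.normal.conj_mem w hw t), hμ.zero _ h1, zero_add]

theorem Rud.fun_ker (h : Rud W) {i : ℕ} (hi : i ≤ 3) (he : phi W = Subgroup.upperCentralSeries T i)
    {μ : T → ZMod 2} (hμ : IsFun W i μ) {w : T} (hw : w ∈ W)
    (h0 : ∀ t : T, μ (t * w * t⁻¹) = 0) : w ∈ phi W := by
  haveI := h.normal
  let K : Subgroup T :=
    { carrier := {a | a ∈ W ∧ ∀ t : T, μ (t * a * t⁻¹) = 0}
      one_mem' := ⟨one_mem _, fun t => hμ.zero _ (by simp)⟩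
      mul_mem' := fun {a b} ha hb => ⟨mul_mem ha.1 hb.1, fun t => by
        rw [show t * (a * b) * t⁻¹ = (t * a * t⁻¹) * (t * b * t⁻¹) by group,
          hμ.add _ (h.normal.conj_mem a ha.1 t) _ (h.normal.conj_mem b hb.1 t), ha.2, hb.2, add_zero]⟩
      inv_mem' := fun {a} ha => ⟨inv_mem ha.1, fun t => by
        have h1 := hμ.add _ (h.normal.conj_mem a ha.1 t) _ (h.normal.conj_mem a⁻¹ (inv_mem ha.1) t)
        rw [ha.2, zero_add, show t * a * t⁻¹ * (t * a⁻¹ * t⁻¹) = 1 by group,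
          hμ.zero 1 (one_mem _)] at h1
        exact h1.symm⟩ }
  haveI : K.Normal := ⟨fun a ha g => ⟨h.normal.conj_mem a ha.1 g, fun t => by
    rw [show t * (g * a * g⁻¹) * t⁻¹ = (t * g) * a * (t * g)⁻¹ by group]; exact ha.2 _⟩⟩
  by_contra hc
  have hle : phi W ≤ K := fun a ha => ⟨phi_le W ha, fun t =>
    hμ.zero _ (h.phi_normal.conj_mem a ha t)⟩
  have hlt : phi W < K := lt_of_le_of_ne hle fun e => hc (e ▸ (⟨hw, h0⟩ : w ∈ K))
  have hZ := h.ucs_succ_le hi he K hlt
  obtain ⟨z, hz, hz'⟩ := h.exists_gen (i := i) (by omega)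
  have h1 := (hZ hz).2 1
  rw [one_mul, inv_one, mul_one, hμ.fixed z hz (he ▸ hz')] at h1
  exact one_ne_zero h1

/-- The map `W → (T/W → 𝔽₂)`. -/
noncomputable def Rud.coinduce (h : Rud W) {i : ℕ} {μ : T → ZMod 2} (hμ : IsFun W i μ) :
    ↥W →* Multiplicative (T ⧸ W → ZMod 2) where
  toFun w := Multiplicative.ofAdd fun q => μ (q.out * (w : T) * q.out⁻¹)
  map_one' := by
    apply Multiplicative.toAdd.injective
    funext q
    simp [hμ.zero 1 (one_mem _)]
  map_mul' a b := by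
    apply Multiplicative.toAdd.injective
    funext q
    simp only [toAdd_ofAdd, toAdd_mul, Pi.add_apply, coe_mul]
    rw [← hμ.add _ (h.normal.conj_mem _ a.2 _) _ (h.normal.conj_mem _ b.2 _)]
    congr 1
    group

theorem Rud.coinduce_ker (h : Rud W) {i : ℕ} (hi : i ≤ 3)
    (he : phi W = Subgroup.upperCentralSeries T i) {μ : T → ZMod 2} (hμ : IsFun W i μ) :
    (h.coinduce hμ).ker = frattini ↥W := by
  ext w
  rw [MonoidHom.mem_ker, show w = ⟨(w : T), w.2⟩ from rfl, ← mem_phi_iff w.2]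
  constructor
  · intro h1
    refine h.fun_ker hi he hμ w.2 fun t => ?_
    have h2 := congrFun (congrArg Multiplicative.toAdd h1) (t : T ⧸ W)
    simp only [Rud.coinduce, MonoidHom.coe_mk, OneHom.coe_mk, toAdd_ofAdd, toAdd_one, Pi.zero_apply] at h2
    haveI := h.normal
    obtain ⟨u, hu⟩ := QuotientGroup.mk_out_eq_mul W t
    rw [hu, h.fun_conj hμ w.2 t u.2] at h2
    exact h2
  · intro h1
    apply Multiplicative.toAdd.injective
    funext q
    exact hμ.zero _ (h.phi_normal.conj_mem _ h1 _)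

theorem Rud.card_facts (h : Rud W) :
    phi W = Subgroup.upperCentralSeries T 3 ∧ W.index = 8 ∧ Nat.card W = 2 ^ 11 ∧
      Nat.card T = 2 ^ 14 := by
  haveI := h.normal
  obtain ⟨i, hi, he⟩ := h.exists_phi_eq
  obtain ⟨μ, hμ⟩ := h.exists_fun hi he
  have hidx := h.index_le
  have hΦ : Nat.card ↥(frattini ↥W) = 2 ^ i := by
    have := h.card_ucs i (by omega)
    rwa [← he, phi, card_map_of_injective W.subtype_injective] at this
  have hW : Nat.card W ≤ 2 ^ i * 2 ^ W.index := by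
    rw [← card_mul_index (h.coinduce hμ).ker, h.coinduce_ker hi he hμ, hΦ]
    refine Nat.mul_le_mul_left _ ?_
    rw [← h.coinduce_ker hi he hμ, index_ker]
    refine le_trans (Finite.card_subtype_le _) ?_
    letI : Fintype (T ⧸ W) := Fintype.ofFinite _
    rw [Nat.card_congr Multiplicative.toAdd, Nat.card_pi, Finset.prod_const, Finset.card_univ,
      Nat.card_zmod]
    rw [index_eq_card, Nat.card_eq_fintype_card]
  have hT := card_mul_index W
  have hbig := h.big
  have hT2 : Nat.card T ≤ 2 ^ i * 2 ^ W.index * W.index := hT ▸ Nat.mul_le_mul_right _ hW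
  have key : i = 3 ∧ W.index = 8 := by
    revert hidx hT2
    generalize W.index = n
    intro hidx hT2
    interval_cases n <;> interval_cases i <;> omega
  rw [key.1, key.2] at hW
  rw [key.2] at hT
  exact ⟨key.1 ▸ he, key.2, by omega, by omega⟩

theorem Rud.phi_eq (h : Rud W) : phi W = Subgroup.upperCentralSeries T 3 := h.card_facts.1

theorem Rud.ucs_le (h : Rud W) : Subgroup.upperCentralSeries T 3 ≤ W := h.phi_eq ▸ phi_le W

theorem Rud.card_phi (h : Rud W) : Nat.card ↥(frattini ↥W) = 8 := by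
  have := h.card_ucs 3 (by norm_num)
  rwa [← h.phi_eq, phi, card_map_of_injective W.subtype_injective] at this

theorem Rud.quad (h : Rud W) : Quad (frattini ↥W) where
  central z hz g := Subtype.ext (h.comm_phi g.2 ⟨z, hz, rfl⟩)
  comm a b := (mem_phi_iff (⁅a, b⁆ : ↥W).2).1 (h.commutator_mem_phi a.2 b.2)
  sq a := (mem_phi_iff (a ^ 2 : ↥W).2).1 (h.sq_mem_phi a.2)
  thin := h.thin

theorem Rud.frattini_eq_commutator (h : Rud W) : frattini ↥W = commutator ↥W := by
  haveI : Fact (Nat.Prime 2) := ⟨Nat.prime_two⟩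
  have hP : IsPGroup 2 ↥W := h.pgroup.to_subgroup W
  refine le_antisymm ?_ (CfsgLib.PGroupBasic.commutator_pow_le_frattini hP).1
  intro z hz
  by_contra hzc
  have hne : (commutator ↥W).subgroupOf (frattini ↥W) ≠ ⊤ := fun e => hzc
    (subgroupOf_eq_top.1 e hz)
  obtain ⟨M, hM, hMle⟩ := (eq_top_or_exists_le_coatom _).resolve_left hne
  have hidx := (CfsgLib.PGroupBasic.coatom_normal_index (hP.to_subgroup _) hM).2
  obtain ⟨y, hy⟩ : ∃ y : ↥(frattini ↥W), y ∉ M := by
    by_contra hc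
    push Not at hc
    exact hM.1 ((eq_top_iff' M).2 hc)
  refine h.quad.no_radical hP (M.map (frattini ↥W).subtype) ⊤ y.2 ?_ (map_subtype_le _) ?_ le_top
    (by rw [index_top]; norm_num) fun r _ s => ?_
  · rintro ⟨b, hb, hby⟩
    exact hy (Subtype.ext hby ▸ hb)
  · intro a ha b hb ha' hb'
    refine ⟨⟨a, ha⟩ * ⟨b, hb⟩, (mul_mem_iff_of_index_two hidx).2 ?_, rfl⟩
    exact ⟨fun h => absurd ⟨_, h, rfl⟩ ha', fun h => absurd ⟨_, h, rfl⟩ hb'⟩
  · exact ⟨⟨_, h.quad.comm r s⟩, hMle (Subgroup.commutator_mem_commutator (mem_top r) (mem_top s)), rfl⟩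

theorem Rud.phi_sq (h : Rud W) {z : T} (hz : z ∈ phi W) : z ^ 2 = 1 := by
  obtain ⟨z, hz', rfl⟩ := hz
  rw [h.frattini_eq_commutator, commutator_eq_closure] at hz'
  rw [← map_pow]
  suffices z ^ 2 = 1 by rw [this, map_one]
  induction hz' using closure_induction with
  | mem x hx =>
    obtain ⟨a, b, rfl⟩ := hx
    rw [pow_two, ← h.quad.comm_mul_left a a b, commutatorElement_eq_one_iff_mul_comm, ← pow_two]
    exact h.quad.central _ (h.quad.sq a) b
  | one => simp
  | mul x y hx _ ihx ihy =>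
    have hxF : x ∈ frattini ↥W := by
      rw [h.frattini_eq_commutator, commutator_eq_closure]; exact hx
    rw [(show Commute x y from h.quad.central x hxF y).mul_pow, ihx, ihy, one_mul]
  | inv x _ ihx => rw [inv_pow, ihx, inv_one]

theorem Rud.comm_ucs (h : Rud W) {a b : T} (ha : a ∈ Subgroup.upperCentralSeries T 3)
    (hb : b ∈ Subgroup.upperCentralSeries T 3) : a * b = b * a :=
  h.comm_phi (h.ucs_le hb) (h.phi_eq.symm ▸ ha)

end CfsgLib.Rudvalis
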