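import Cfsg.Agent.FGSB.Rudvalis.Basic

/-!
Coordinates on `Z₃(T)` and on `T/W` for 2-groups of Rudvalis type.
-/

set_option autoImplicit false
set_option linter.unusedSectionVars false
set_option linter.style.haveILetI false

namespace CfsgLib.Rudvalis

open Subgroup
open scoped commutatorElement

/-- Triples over `𝔽₂`. -/
abbrev C := ZMod 2 × ZMod 2 × ZMod 2

/-- The multiplication of `T/W` in coordinates. -/
def mulC (s t : C) : C := (s.1 + t.1, s.2.1 + t.2.1, s.2.2 + t.2.2 + s.1 * t.2.1)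

/-- The inversion of `T/W` in coordinates. -/
def invC (s : C) : C := (s.1, s.2.1, s.2.2 + s.1 * s.2.1)

/-- The action of `T/W` on `Z₃(T)` in coordinates. -/
def actC (t v : C) : C := (v.1, v.2.1 + v.1 * t.2.1, v.2.2 + v.1 * t.2.2 + v.2.1 * t.1)

theorem mulC_assoc : ∀ r s t : C, mulC (mulC r s) t = mulC r (mulC s t) := by decide
theorem mulC_zero_right : ∀ s : C, mulC s 0 = s := by decide
theorem mulC_zero_left : ∀ s : C, mulC 0 s = s := by decide
theorem mulC_invC : ∀ s : C, mulC s (invC s) = 0 := by decide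
theorem invC_mulC : ∀ s : C, mulC (invC s) s = 0 := by decide
theorem invC_invC : ∀ s : C, invC (invC s) = s := by decide
theorem mulC_right_eq_self : ∀ s t : C, mulC s t = s → t = 0 := by decide
theorem mulC_left_cancel : ∀ r s t : C, mulC r s = mulC r t → s = t := by decide
theorem actC_mul : ∀ s t v : C, actC s (actC t v) = actC (mulC s t) v := by decide
theorem actC_inj : ∀ s t : C, (∀ v, actC s v = actC t v) → s = t := by decide

variable {T : Type*} [Group T] [Finite T] {W : Subgroup T}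

/-- Coordinates for `Z₃(T)` and `T/W`. -/
structure Frame (W : Subgroup T) where
  E : C → T
  E_mem : ∀ v, E v ∈ Subgroup.upperCentralSeries T 3
  E_add : ∀ u v, E (u + v) = E u * E v
  E_inj : Function.Injective E
  E_surj : ∀ a ∈ Subgroup.upperCentralSeries T 3, ∃ v, E v = a
  E_two : ∀ v, E v ∈ Subgroup.upperCentralSeries T 2 ↔ v.1 = 0
  E_one : ∀ v, E v ∈ Subgroup.upperCentralSeries T 1 ↔ v.1 = 0 ∧ v.2.1 = 0
  cc : T → C
  cc_conj : ∀ t v, t * E v * t⁻¹ = E (actC (cc t) v)
  cc_mul : ∀ s t, cc (s * t) = mulC (cc s) (cc t)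
  cc_eq : ∀ s t, cc s = cc t ↔ s⁻¹ * t ∈ W
  rep : C → T
  cc_rep : ∀ c, cc (rep c) = c

theorem Frame.cc_one (Fr : Frame W) : Fr.cc 1 = 0 :=
  mulC_right_eq_self (Fr.cc 1) _ (by rw [← Fr.cc_mul, mul_one])

theorem Frame.cc_inv (Fr : Frame W) (t : T) : Fr.cc t⁻¹ = invC (Fr.cc t) :=
  mulC_left_cancel (Fr.cc t) _ _ (by rw [← Fr.cc_mul, mul_inv_cancel, Fr.cc_one, mulC_invC])

theorem Frame.mem_iff (Fr : Frame W) (t : T) : t ∈ W ↔ Fr.cc t = 0 := by
  have h := Fr.cc_eq 1 t
  rw [Fr.cc_one, inv_one, one_mul] at h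
  exact h.symm.trans eq_comm

theorem Rud.nonempty_frame (h : Rud W) : Nonempty (Frame W) := by
  classical
  obtain ⟨e1, he1, he1'⟩ := h.exists_gen (i := 0) (by norm_num)
  obtain ⟨e2, he2, he2'⟩ := h.exists_gen (i := 1) (by norm_num)
  obtain ⟨e3, he3, he3'⟩ := h.exists_gen (i := 2) (by norm_num)
  have l12 : Subgroup.upperCentralSeries T 1 ≤ Subgroup.upperCentralSeries T 2 :=
    Subgroup.upperCentralSeries_mono T (by norm_num)
  have l23 : Subgroup.upperCentralSeries T 2 ≤ Subgroup.upperCentralSeries T 3 :=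
    Subgroup.upperCentralSeries_mono T (by norm_num)
  have hsq : ∀ z ∈ Subgroup.upperCentralSeries T 3, z * z = 1 := fun z hz => by
    rw [← pow_two]; exact h.phi_sq (h.phi_eq.symm ▸ hz)
  have pw_add : ∀ z ∈ Subgroup.upperCentralSeries T 3, ∀ a b : ZMod 2,
      z ^ (a + b).val = z ^ a.val * z ^ b.val := by
    intro z hz a b
    have val2' : ∀ a : ZMod 2, a = 0 ∨ a = 1 := by decide
    rcases val2' a with rfl | rfl <;> rcases val2' b with rfl | rfl <;>
      simp [hsq z hz, ZMod.val_one, show (1 + 1 : ZMod 2) = 0 from rfl]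
  let E : C → T := fun v => e3 ^ v.1.val * (e2 ^ v.2.1.val * e1 ^ v.2.2.val)
  have m3 := he3
  have m2 := l23 he2
  have m1 := l23 (l12 he1)
  have E_mem : ∀ v, E v ∈ Subgroup.upperCentralSeries T 3 := fun v =>
    mul_mem (pow_mem m3 _) (mul_mem (pow_mem m2 _) (pow_mem m1 _))
  have E_add : ∀ u v, E (u + v) = E u * E v := by
    intro u v
    simp only [E, Prod.fst_add, Prod.snd_add, pw_add _ m3, pw_add _ m2, pw_add _ m1]
    have c : ∀ a ∈ Subgroup.upperCentralSeries T 3, ∀ b ∈ Subgroup.upperCentralSeries T 3,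
        Commute a b := fun a ha b hb => h.comm_ucs ha hb
    rw [(c _ (pow_mem m2 _) _ (pow_mem m1 _)).mul_mul_mul_comm,
      (c _ (pow_mem m3 _) _ (mul_mem (pow_mem m2 _) (pow_mem m1 _))).mul_mul_mul_comm]
  have val2 : ∀ a : ZMod 2, a = 0 ∨ a = 1 := by decide
  have E_two : ∀ v, E v ∈ Subgroup.upperCentralSeries T 2 ↔ v.1 = 0 := by
    rintro ⟨a, b, c⟩
    have hm : e2 ^ b.val * e1 ^ c.val ∈ Subgroup.upperCentralSeries T 2 :=
      mul_mem (pow_mem he2 _) (pow_mem (l12 he1) _)
    rcases val2 a with rfl | rfl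
    · simpa [E] using hm
    · simp only [E, ZMod.val_one, pow_one, mul_mem_cancel_right hm]
      exact iff_of_false he3' one_ne_zero
  have E_one : ∀ v, E v ∈ Subgroup.upperCentralSeries T 1 ↔ v.1 = 0 ∧ v.2.1 = 0 := by
    rintro ⟨a, b, c⟩
    constructor
    · intro hv
      have ha : a = 0 := (E_two (a, b, c)).1 (l12 hv)
      refine ⟨ha, ?_⟩
      rcases val2 b with rfl | rfl
      · rfl
      · exfalso
        subst ha
        simp only [E, ZMod.val_zero, pow_zero, one_mul, ZMod.val_one, pow_one] at hv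
        exact he2' ((mul_mem_cancel_right (pow_mem he1 _)).1 hv)
    · rintro ⟨rfl, rfl⟩
      simpa [E] using pow_mem he1 c.val
  have E_zero : E 0 = 1 := by simp [E]
  have E_inj : Function.Injective E := by
    intro u v huv
    have h0 : E (u + v) = 1 := by rw [E_add, huv, hsq _ (E_mem v)]
    have h1 := (E_one (u + v)).1 (h0 ▸ one_mem _)
    have h2 : (u + v).2.2 = 0 := by
      rcases val2 (u + v).2.2 with h2 | h2
      · exact h2
      · exfalso
        have h3 : E (u + v) = e1 := by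
          show e3 ^ _ * (e2 ^ _ * e1 ^ _) = e1
          rw [h1.1, h1.2, h2]
          simp [ZMod.val_one]
        rw [h0] at h3
        exact he1' (h3 ▸ one_mem _)
    have : ∀ u v : C, (u + v).1 = 0 → (u + v).2.1 = 0 → (u + v).2.2 = 0 → u = v := by decide
    exact this u v h1.1 h1.2 h2
  have E_surj : ∀ a ∈ Subgroup.upperCentralSeries T 3, ∃ v, E v = a := by
    intro a ha
    have hb : Function.Bijective (fun v => (⟨E v, E_mem v⟩ : ↥(Subgroup.upperCentralSeries T 3))) := by
      refine (Nat.bijective_iff_injective_and_card _).2 ⟨fun u v huv => E_inj (congrArg Subtype.val huv), ?_⟩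
      rw [h.card_ucs 3 (by norm_num)]
      simp
    obtain ⟨v, hv⟩ := hb.2 ⟨a, ha⟩
    exact ⟨v, congrArg Subtype.val hv⟩
  have conj_mem : ∀ (i : ℕ) (t : T), ∀ a ∈ Subgroup.upperCentralSeries T (i + 1),
      a⁻¹ * (t * a * t⁻¹) ∈ Subgroup.upperCentralSeries T i := by
    intro i t a ha
    have := Subgroup.mem_upperCentralSeries_succ_iff.1 (inv_mem ha) t
    rw [commutatorElement_def, inv_inv] at this
    simpa [mul_assoc] using this
  have exists_cc : ∀ t : T, ∃ c : C, ∀ v, t * E v * t⁻¹ = E (actC c v) := by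
    intro t
    obtain ⟨v3, hv3⟩ := E_surj _ (l23 (conj_mem 2 t e3 he3))
    obtain ⟨v2, hv2⟩ := E_surj _ (l23 (l12 (conj_mem 1 t e2 he2)))
    have h3 : v3.1 = 0 := (E_two v3).1 (hv3 ▸ conj_mem 2 t e3 he3)
    have h2 := (E_one v2).1 (hv2 ▸ conj_mem 1 t e2 he2)
    refine ⟨(v2.2.2, v3.2.1, v3.2.2), ?_⟩
    have hE3 : t * e3 * t⁻¹ = E ((1, 0, 0) + v3) := by
      rw [E_add, hv3, show E (1, 0, 0) = e3 by simp [E, ZMod.val_one], mul_inv_cancel_left]
    have hE2 : t * e2 * t⁻¹ = E ((0, 1, 0) + v2) := by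
      rw [E_add, hv2, show E (0, 1, 0) = e2 by simp [E, ZMod.val_one], mul_inv_cancel_left]
    have hE1 : t * e1 * t⁻¹ = E (0, 0, 1) := by
      have he : e1 ∈ center T := by
        have := he1
        rwa [Subgroup.upperCentralSeries_one] at this
      rw [mem_center_iff.1 he t, mul_inv_cancel_right]
      simp [E, ZMod.val_one]
    rintro ⟨a, b, c⟩
    have hlhs : t * E (a, b, c) * t⁻¹ =
        (t * e3 * t⁻¹) ^ a.val * ((t * e2 * t⁻¹) ^ b.val * (t * e1 * t⁻¹) ^ c.val) := by
      simp only [E, conj_pow]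
      group
    rw [hlhs, hE1, hE2, hE3]
    have hp : ∀ (w : C) (n : ZMod 2), E w ^ n.val = E (n * w.1, n * w.2.1, n * w.2.2) := by
      intro w n
      rcases val2 n with rfl | rfl
      · simp [E_zero, show ((0, 0, 0) : C) = 0 from rfl]
      · simp [ZMod.val_one]
    rw [hp, hp, hp, ← E_add, ← E_add]
    congr 1
    revert h3 h2
    obtain ⟨x3, y3, z3⟩ := v3
    obtain ⟨x2, y2, z2⟩ := v2
    rintro rfl ⟨rfl, rfl⟩
    simp [actC]
    exact ⟨by ring, by ring⟩
  choose cc hcc using exists_cc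
  have cc_mul : ∀ s t, cc (s * t) = mulC (cc s) (cc t) := fun s t =>
    actC_inj _ _ fun v => E_inj (by
      rw [← hcc, ← actC_mul, ← hcc, ← hcc]; group)
  have cc_W : ∀ t, cc t = 0 ↔ t ∈ W := by
    intro t
    constructor
    · intro ht
      refine (SetLike.ext_iff.1 h.w_eq t).2 (mem_centralizer_iff.2 fun a ha => ?_)
      obtain ⟨v, rfl⟩ := E_surj a ha
      have h1 := hcc t v
      rw [ht, show actC 0 v = v by simp [actC]] at h1
      calc E v * t = t * E v * t⁻¹ * t := by rw [h1]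
        _ = t * E v := by group
    · intro ht
      refine actC_inj _ _ fun v => E_inj ?_
      rw [← hcc, show actC 0 v = v by simp [actC]]
      have := mem_centralizer_iff.1 ((SetLike.ext_iff.1 h.w_eq t).1 ht) _ (E_mem v)
      rw [← this, mul_inv_cancel_right]
  have cc_eq : ∀ s t, cc s = cc t ↔ s⁻¹ * t ∈ W := by
    intro s t
    rw [← cc_W]
    have h1 : cc t = mulC (cc s) (cc (s⁻¹ * t)) := by rw [← cc_mul, mul_inv_cancel_left]
    constructor
    · intro he
      exact mulC_right_eq_self _ _ (h1.symm.trans he.symm)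
    · intro he
      rw [h1, he, mulC_zero_right]
  have cc_surj : Function.Surjective cc := by
    haveI := h.normal
    have hinj : Function.Injective (fun q : T ⧸ W => cc q.out) := by
      intro p q hpq
      rw [← QuotientGroup.out_eq' p, ← QuotientGroup.out_eq' q]
      exact QuotientGroup.eq.2 ((cc_eq _ _).1 hpq)
    have hb : Function.Bijective (fun q : T ⧸ W => cc q.out) := by
      refine (Nat.bijective_iff_injective_and_card _).2 ⟨hinj, ?_⟩
      rw [← index_eq_card, h.card_facts.2.1]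
      simp
    exact fun c => ⟨_, (hb.2 c).choose_spec⟩
  exact ⟨⟨E, E_mem, E_add, E_inj, E_surj, E_two, E_one, cc, hcc, cc_mul, cc_eq,
    fun c => (cc_surj c).choose, fun c => (cc_surj c).choose_spec⟩⟩

end CfsgLib.Rudvalis
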