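import Cfsg.Agent.FGSB.Rudvalis.Nondegenerate
import Cfsg.Agent.AutPOm.Extensions

/-!
The structure of 2-groups of Rudvalis type.
-/

set_option autoImplicit false
set_option linter.unusedSectionVars false
set_option linter.style.haveILetI false

namespace CfsgLib.Rudvalis

open Subgroup
open scoped commutatorElement

variable {T : Type*} [Group T] [Finite T] {W : Subgroup T}

theorem Rud.center_eq (h : Rud W) : center ↥W = frattini ↥W := by
  refine le_antisymm (fun z hz => (mem_phi_iff z.2).1 (h.nondegenerate z.2 fun b hb => ?_))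
    fun z hz => mem_center_iff.2 fun g => (h.quad.central z hz g).symm
  have h1 : ⁅z, ⟨b, hb⟩⁆ = (1 : ↥W) :=
    commutatorElement_eq_one_iff_mul_comm.2 (mem_center_iff.1 hz ⟨b, hb⟩).symm
  have h2 := congrArg Subtype.val h1
  rw [show ⁅(z : T), b⁆ = 1 from h2]
  exact one_mem _

theorem Rud.nonempty_dihedral (h : Rud W) [W.Normal] : Nonempty (T ⧸ W ≃* DihedralGroup 4) := by
  obtain ⟨Fr⟩ := h.nonempty_frame
  have hmk : ∀ s t : T, (s : T ⧸ W) = t ↔ Fr.cc s = Fr.cc t := fun s t => by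
    rw [QuotientGroup.eq, Fr.cc_eq]
  refine CfsgLib.AutPOm.nonempty_equiv_dihedral (by rw [← index_eq_card]; exact h.card_facts.2.1)
    (a := (Fr.rep (1, 0, 0) : T ⧸ W)) (b := (Fr.rep (0, 1, 0) : T ⧸ W)) ?_ ?_
  · rw [← QuotientGroup.mk_mul, ← QuotientGroup.mk_one, hmk, Fr.cc_mul, Fr.cc_rep, Fr.cc_one]
    decide
  · rw [← QuotientGroup.mk_mul, ← QuotientGroup.mk_mul, ne_eq, hmk, Fr.cc_mul, Fr.cc_mul,
      Fr.cc_rep, Fr.cc_rep]
    decide

theorem Rud.structure_eq (h : Rud W) :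
    Nat.card T = 2 ^ 14 ∧
      (commutator ↥W).map W.subtype = Subgroup.upperCentralSeries T 3 ∧
      (frattini ↥W).map W.subtype = Subgroup.upperCentralSeries T 3 ∧
      Nat.card ↥(Subgroup.center ↥W) = 8 ∧
      Nat.card ↥(Subgroup.upperCentralSeries T 3) = 8 ∧
      (∀ z ∈ Subgroup.upperCentralSeries T 3, z ^ 2 = 1) ∧
      (∃ (_ : W.Normal), Nonempty (T ⧸ W ≃* DihedralGroup 4)) ∧
      Nat.card (↥W ⧸ commutator ↥W) = 2 ^ 8 ∧ (∀ x : ↥W ⧸ commutator ↥W, x ^ 2 = 1) := by
  haveI := h.normal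
  refine ⟨h.card_facts.2.2.2, ?_, h.phi_eq, by rw [h.center_eq]; exact h.card_phi,
    h.card_ucs 3 (by norm_num), fun z hz => h.phi_sq (h.phi_eq.symm ▸ hz),
    ⟨h.normal, h.nonempty_dihedral⟩, ?_, ?_⟩
  · rw [← h.frattini_eq_commutator]; exact h.phi_eq
  · have h1 := card_mul_index (commutator ↥W)
    rw [index_eq_card, h.card_facts.2.2.1, ← h.frattini_eq_commutator, h.card_phi] at h1
    rw [← h.frattini_eq_commutator]
    omega
  · intro x
    induction x using QuotientGroup.induction_on with | _ x =>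
    rw [← QuotientGroup.mk_pow, QuotientGroup.eq_one_iff, ← h.frattini_eq_commutator]
    exact h.quad.sq x

end CfsgLib.Rudvalis
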