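import Cfsg.Agent.FGSB.Rudvalis.Frame

/-!
The form `W/Φ(W) × W/Φ(W) → Z₃(T)/Z₂(T)` is nondegenerate.
-/

set_option autoImplicit false
set_option linter.unusedSectionVars false
set_option linter.style.haveILetI false

namespace CfsgLib.Rudvalis

open Subgroup
open scoped commutatorElement

variable {T : Type*} [Group T] [Finite T] {W : Subgroup T}

/-- The coordinate functions of an element of `W`. -/
def coord (Fr : Frame W) (μ : T → ZMod 2) (w : T) : C → ZMod 2 :=
  fun c => μ (Fr.rep c * w * (Fr.rep c)⁻¹)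

variable {μ : T → ZMod 2}

theorem Rud.coord_add (h : Rud W) (Fr : Frame W) (hμ : IsFun W 3 μ) {a b : T} (ha : a ∈ W)
    (hb : b ∈ W) : coord Fr μ (a * b) = coord Fr μ a + coord Fr μ b := by
  funext c
  simp only [coord, Pi.add_apply]
  rw [← hμ.add _ (h.normal.conj_mem _ ha _) _ (h.normal.conj_mem _ hb _)]
  congr 1
  group

theorem Rud.coord_phi (h : Rud W) (Fr : Frame W) (hμ : IsFun W 3 μ) {a : T} (ha : a ∈ phi W) :
    coord Fr μ a = 0 :=
  funext fun _ => hμ.zero _ (h.phi_normal.conj_mem _ ha _)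

theorem Rud.coord_one (h : Rud W) (Fr : Frame W) (hμ : IsFun W 3 μ) : coord Fr μ 1 = 0 :=
  h.coord_phi Fr hμ (one_mem _)

theorem Rud.coord_inv (h : Rud W) (Fr : Frame W) (hμ : IsFun W 3 μ) {a : T} (ha : a ∈ W) :
    coord Fr μ a⁻¹ = coord Fr μ a := by
  have h1 := h.coord_add Fr hμ ha (inv_mem ha)
  rw [mul_inv_cancel, h.coord_one Fr hμ] at h1
  have : ∀ x y : ZMod 2, 0 = x + y → y = x := by decide
  funext c
  exact this _ _ (congrFun h1 c)

theorem Rud.mem_phi_of_coord (h : Rud W) (Fr : Frame W) (hμ : IsFun W 3 μ) {w : T} (hw : w ∈ W)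
    (h0 : coord Fr μ w = 0) : w ∈ phi W := by
  refine h.fun_ker (le_refl 3) h.phi_eq hμ hw fun t => ?_
  have hu : (Fr.rep (Fr.cc t))⁻¹ * t ∈ W := (Fr.cc_eq _ _).1 (Fr.cc_rep _)
  have h1 := h.fun_conj hμ hw (Fr.rep (Fr.cc t)) hu
  rw [mul_inv_cancel_left] at h1
  rw [h1]
  exact congrFun h0 _

theorem Rud.coord_conj (h : Rud W) (Fr : Frame W) (hμ : IsFun W 3 μ) {w : T} (hw : w ∈ W) (t : T)
    (c : C) : coord Fr μ (t * w * t⁻¹) c = coord Fr μ w (mulC c (Fr.cc t)) := by
  have hu : (Fr.rep (mulC c (Fr.cc t)))⁻¹ * (Fr.rep c * t) ∈ W :=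
    (Fr.cc_eq _ _).1 (by rw [Fr.cc_rep, Fr.cc_mul, Fr.cc_rep])
  have h1 := h.fun_conj hμ hw (Fr.rep (mulC c (Fr.cc t))) hu
  rw [mul_inv_cancel_left] at h1
  simp only [coord]
  rw [← h1]
  congr 1
  group

theorem Rud.coord_surj (h : Rud W) (Fr : Frame W) (hμ : IsFun W 3 μ) (g : C → ZMod 2) :
    ∃ w ∈ W, coord Fr μ w = g := by
  let f : ↥W →* Multiplicative (C → ZMod 2) :=
    { toFun := fun w => Multiplicative.ofAdd (coord Fr μ w)
      map_one' := by
        apply Multiplicative.toAdd.injective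
        simp [h.coord_one Fr hμ]
      map_mul' := fun a b => by
        apply Multiplicative.toAdd.injective
        simp [h.coord_add Fr hμ a.2 b.2] }
  have hker : f.ker = frattini ↥W := by
    ext w
    rw [MonoidHom.mem_ker, show w = ⟨(w : T), w.2⟩ from rfl, ← mem_phi_iff w.2]
    exact ⟨fun h1 => h.mem_phi_of_coord Fr hμ w.2 (congrArg Multiplicative.toAdd h1),
      fun h1 => congrArg Multiplicative.ofAdd (h.coord_phi Fr hμ h1)⟩
  have hcard : Nat.card f.range = Nat.card (Multiplicative (C → ZMod 2)) := by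
    have h1 := card_mul_index f.ker
    rw [index_ker, hker, h.card_phi, h.card_facts.2.2.1] at h1
    rw [Nat.card_congr Multiplicative.toAdd, Nat.card_pi]
    simp only [Finset.prod_const, Finset.card_univ, Nat.card_zmod, Fintype.card_prod, ZMod.card]
    omega
  obtain ⟨w, hw⟩ : Multiplicative.ofAdd g ∈ f.range := by
    rw [Subgroup.eq_top_of_card_eq _ hcard]; exact mem_top _
  exact ⟨w, w.2, congrArg Multiplicative.toAdd hw⟩

open Classical in
/-- The functional `Z₃/Z₂ → 𝔽₂`. -/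
noncomputable def top (z : T) : ZMod 2 := if z ∈ Subgroup.upperCentralSeries T 2 then 0 else 1

theorem Rud.top_E (h : Rud W) (Fr : Frame W) (v : C) : top (Fr.E v) = v.1 := by
  have h2 : ∀ a : ZMod 2, a = 0 ∨ a = 1 := by decide
  rcases h2 v.1 with hv | hv
  · rw [hv, top, if_pos ((Fr.E_two v).2 hv)]
  · rw [hv, top, if_neg (fun hm => by rw [(Fr.E_two v).1 hm] at hv; exact zero_ne_one hv)]

theorem Rud.top_mul (h : Rud W) (Fr : Frame W) {a b : T} (ha : a ∈ Subgroup.upperCentralSeries T 3)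
    (hb : b ∈ Subgroup.upperCentralSeries T 3) : top (a * b) = top a + top b := by
  obtain ⟨u, rfl⟩ := Fr.E_surj a ha
  obtain ⟨v, rfl⟩ := Fr.E_surj b hb
  rw [← Fr.E_add, h.top_E Fr, h.top_E Fr, h.top_E Fr]
  rfl

theorem top_inv (z : T) : top z⁻¹ = top z := by
  classical
  simp only [top]
  exact if_congr inv_mem_iff rfl rfl

theorem top_conj (t z : T) : top (t * z * t⁻¹) = top z := by
  classical
  simp only [top]
  refine if_congr ⟨fun h => ?_, fun h => ?_⟩ rfl rfl
  · simpa [mul_assoc] using (inferInstance : (Subgroup.upperCentralSeries T 2).Normal).conj_mem _ h t⁻¹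
  · exact (inferInstance : (Subgroup.upperCentralSeries T 2).Normal).conj_mem _ h t

theorem Rud.comm_mem (h : Rud W) {a b : T} (ha : a ∈ W) (hb : b ∈ W) :
    ⁅a, b⁆ ∈ Subgroup.upperCentralSeries T 3 := h.phi_eq ▸ h.commutator_mem_phi ha hb

theorem Rud.comm_right (h : Rud W) {a b c : T} (ha : a ∈ W) (hb : b ∈ W) (hc : c ∈ W) :
    ⁅a, b * c⁆ = ⁅a, b⁆ * ⁅a, c⁆ :=
  congrArg Subtype.val (h.quad.comm_mul_right (⟨a, ha⟩ : ↥W) ⟨b, hb⟩ ⟨c, hc⟩)

theorem Rud.comm_left (h : Rud W) {a b c : T} (ha : a ∈ W) (hb : b ∈ W) (hc : c ∈ W) :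
    ⁅a * b, c⁆ = ⁅a, c⁆ * ⁅b, c⁆ :=
  congrArg Subtype.val (h.quad.comm_mul_left (⟨a, ha⟩ : ↥W) ⟨b, hb⟩ ⟨c, hc⟩)

theorem Rud.exists_fixed (h : Rud W) (Fr : Frame W) (hμ : IsFun W 3 μ) :
    ∃ z ∈ W, z ∈ Subgroup.upperCentralSeries T 4 ∧ z ∉ phi W ∧ coord Fr μ z = 1 := by
  haveI := h.normal
  obtain ⟨z, hz, hz'⟩ := h.exists_gen (i := 3) (by norm_num)
  have hle := h.ucs_succ_le (le_refl 3) h.phi_eq W h.phi_lt
  have hzphi : z ∉ phi W := h.phi_eq.symm ▸ hz'
  refine ⟨z, hle hz, hz, hzphi, funext fun c => hμ.fixed _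
    ((inferInstance : (Subgroup.upperCentralSeries T 4).Normal).conj_mem z hz _) fun hm => hzphi ?_⟩
  simpa [mul_assoc] using h.phi_normal.conj_mem _ hm (Fr.rep c)⁻¹

private theorem add_eq_zero' : ∀ x y : ZMod 2, x + y = 0 → y = x := by decide

private theorem pair_indicator : ∀ (e : ZMod 2 × ZMod 2) (c : C),
    ((if mulC c (invC (e.1, e.2, 0)) = 0 then (1 : ZMod 2) else 0) +
      if mulC c (mulC (invC (e.1, e.2, 0)) (0, 0, 1)) = 0 then 1 else 0) =
      if (c.1, c.2.1) = e then 1 else 0 := by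
  decide

private theorem pair_bit (b : C → ZMod 2) (h0 : b 0 = 0) (hinv : ∀ p, b (invC p) = b p)
    (hfix : ∀ p, invC p = p → (p.2.1 = 1 ∨ (p.1 = 0 ∧ p.2.2 = 1)) → b p = 0)
    (hsum : (∑ p, b p) = 0) : ∀ p, b p + b (mulC (0, 0, 1) p) = 0 := by
  have h1 := hfix (0, 0, 1) (by decide) (by decide)
  have h2 := hfix (0, 1, 0) (by decide) (by decide)
  have h3 := hfix (0, 1, 1) (by decide) (by decide)
  have h6 : b (1, 1, 1) = b (1, 1, 0) := hinv (1, 1, 0)
  have h0' : b (0, 0, 0) = 0 := h0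
  have key : ∀ x y u v : ZMod 2, u = v → x + y + (v + u) = 0 → y = x := by decide
  have huniv : (Finset.univ : Finset (ZMod 2)) = {0, 1} := by decide
  simp only [Fintype.sum_prod_type, huniv, Finset.sum_pair (zero_ne_one (α := ZMod 2)), h0', h1, h2,
    h3, add_zero, zero_add] at hsum
  have h5 : b (1, 0, 1) = b (1, 0, 0) := key _ _ _ _ h6 hsum
  have hcases : ∀ p : C, p = (0, 0, 0) ∨ p = (0, 0, 1) ∨ p = (0, 1, 0) ∨ p = (0, 1, 1) ∨
      p = (1, 0, 0) ∨ p = (1, 0, 1) ∨ p = (1, 1, 0) ∨ p = (1, 1, 1) := by decide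
  intro p
  rcases hcases p with rfl | rfl | rfl | rfl | rfl | rfl | rfl | rfl <;>
    simp only [mulC, add_zero, zero_add, mul_zero, zero_mul, h0', h1, h2, h3, h5, h6,
      show (1 + 1 : ZMod 2) = 0 from rfl, CharTwo.add_self_eq_zero]

theorem Rud.nondegenerate (h : Rud W) {a : T} (ha : a ∈ W)
    (ha2 : ∀ b ∈ W, ⁅a, b⁆ ∈ Subgroup.upperCentralSeries T 2) : a ∈ phi W := by
  classical
  haveI := h.normal
  obtain ⟨Fr⟩ := h.nonempty_frame
  obtain ⟨μ, hμ⟩ := h.exists_fun (le_refl 3) h.phi_eq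
  let β : T → T → ZMod 2 := fun x y => top ⁅x, y⁆
  have β_right : ∀ {x y z : T}, x ∈ W → y ∈ W → z ∈ W → β x (y * z) = β x y + β x z :=
    fun {x y z} hx hy hz => by
      simp only [β, h.comm_right hx hy hz]
      exact h.top_mul Fr (h.comm_mem hx hy) (h.comm_mem hx hz)
  have β_left : ∀ {x y z : T}, x ∈ W → y ∈ W → z ∈ W → β (x * y) z = β x z + β y z :=
    fun {x y z} hx hy hz => by
      simp only [β, h.comm_left hx hy hz]
      exact h.top_mul Fr (h.comm_mem hx hz) (h.comm_mem hy hz)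
  have β_symm : ∀ x y : T, β x y = β y x := fun x y => by
    simp only [β]; rw [← commutatorElement_inv, top_inv]
  have β_conj : ∀ t x y : T, β (t * x * t⁻¹) (t * y * t⁻¹) = β x y := fun t x y => by
    simp only [β]
    rw [show ⁅t * x * t⁻¹, t * y * t⁻¹⁆ = t * ⁅x, y⁆ * t⁻¹ by
      simp only [commutatorElement_def]; group, top_conj]
  have top_one : top (1 : T) = 0 := by simp [top, one_mem]
  have β_phi : ∀ {x p : T}, x ∈ W → p ∈ phi W → β x p = 0 := fun {x p} hx hp => by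
    simp only [β]
    rw [commutatorElement_eq_one_iff_mul_comm.2 (h.comm_phi hx hp).symm, top_one]
  have β_cong : ∀ {x y y' : T}, x ∈ W → y ∈ W → y' ∈ W → coord Fr μ y = coord Fr μ y' →
      β x y = β x y' := fun {x y y'} hx hy hy' he => by
    have hp : y⁻¹ * y' ∈ phi W := by
      refine h.mem_phi_of_coord Fr hμ (mul_mem (inv_mem hy) hy') ?_
      rw [h.coord_add Fr hμ (inv_mem hy) hy', h.coord_inv Fr hμ hy, he]
      funext c
      exact CharTwo.add_self_eq_zero _
    have h1 := β_right hx hy (mul_mem (inv_mem hy) hy')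
    rw [mul_inv_cancel_left, β_phi hx hp, add_zero] at h1
    exact h1.symm
  let R₀ : Subgroup T :=
    { carrier := {x | x ∈ W ∧ ∀ y ∈ W, β x y = 0}
      one_mem' := ⟨one_mem _, fun y _ => by simp [β, top_one]⟩
      mul_mem' := fun {x x'} hx hx' => ⟨mul_mem hx.1 hx'.1, fun y hy => by
        rw [β_left hx.1 hx'.1 hy, hx.2 y hy, hx'.2 y hy, add_zero]⟩
      inv_mem' := fun {x} hx => ⟨inv_mem hx.1, fun y hy => by
        have h1 := β_left hx.1 (inv_mem hx.1) hy
        rw [hx.2 y hy, mul_inv_cancel, zero_add] at h1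
        rw [← h1]; simp [β, top_one]⟩ }
  haveI : R₀.Normal := ⟨fun x hx t => ⟨h.normal.conj_mem x hx.1 t, fun y hy => by
    have h1 := β_conj t x (t⁻¹ * y * t)
    rw [show t * (t⁻¹ * y * t) * t⁻¹ = y by group,
      hx.2 _ (by simpa using h.normal.conj_mem y hy t⁻¹)] at h1
    exact h1⟩⟩
  have hphiR : phi W ≤ R₀ := fun p hp => ⟨phi_le W hp, fun y hy => by
    rw [β_symm]; exact β_phi hy hp⟩
  by_contra hc
  have haR : a ∈ R₀ := ⟨ha, fun b hb => if_pos (ha2 b hb)⟩
  have hlt : phi W < R₀ := lt_of_le_of_ne hphiR fun e => hc (e ▸ haR)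
  obtain ⟨z₀, hz₀, hz₀4, -, hz₀1⟩ := h.exists_fixed Fr hμ
  have hz₀R : z₀ ∈ R₀ := h.ucs_succ_le (le_refl 3) h.phi_eq R₀ hlt hz₀4
  obtain ⟨x₀, hx₀, hx₀1⟩ := h.coord_surj Fr hμ (fun c => if c = 0 then 1 else 0)
  let d : C → T := fun p => Fr.rep p * x₀ * (Fr.rep p)⁻¹
  have hd : ∀ p, d p ∈ W := fun p => h.normal.conj_mem _ hx₀ _
  have hdc : ∀ p c, coord Fr μ (d p) c = if mulC c p = 0 then 1 else 0 := fun p c => by
    simp only [d]
    rw [h.coord_conj Fr hμ hx₀, Fr.cc_rep, hx₀1]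
  have hd_eq : ∀ t : T, coord Fr μ (t * x₀ * t⁻¹) = coord Fr μ (d (Fr.cc t)) := fun t => by
    funext c
    rw [h.coord_conj Fr hμ hx₀, hdc, hx₀1]
  let b : C → ZMod 2 := fun p => β x₀ (d p)
  have hb_conj : ∀ p q, β (d p) (d q) = b (mulC (invC p) q) := by
    intro p q
    have h1 := β_conj (Fr.rep p)⁻¹ (d p) (d q)
    simp only [d] at h1
    rw [inv_inv, show (Fr.rep p)⁻¹ * (Fr.rep p * x₀ * (Fr.rep p)⁻¹) * Fr.rep p = x₀ by group] at h1
    rw [← h1]
    refine β_cong hx₀ ?_ (hd _) ?_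
    · have := h.normal.conj_mem _ (hd q) (Fr.rep p)⁻¹
      rwa [inv_inv] at this
    · rw [show (Fr.rep p)⁻¹ * (Fr.rep q * x₀ * (Fr.rep q)⁻¹) * Fr.rep p =
          ((Fr.rep p)⁻¹ * Fr.rep q) * x₀ * ((Fr.rep p)⁻¹ * Fr.rep q)⁻¹ by group,
        hd_eq, Fr.cc_mul, Fr.cc_inv, Fr.cc_rep, Fr.cc_rep]
  have hd0 : coord Fr μ (d 0) = coord Fr μ x₀ := by
    funext c
    rw [hdc, mulC_zero_right, hx₀1]
  have hb0 : b 0 = 0 := by
    rw [show b 0 = β x₀ x₀ from β_cong hx₀ (hd 0) hx₀ hd0]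
    simp [β, top_one]
  have hbinv : ∀ p, b (invC p) = b p := by
    intro p
    have h1 := hb_conj p 0
    rw [mulC_zero_right, β_symm, hb_conj, show invC 0 = 0 from by decide, mulC_zero_left] at h1
    exact h1.symm
  have hbfix : ∀ p, invC p = p → (p.2.1 = 1 ∨ (p.1 = 0 ∧ p.2.2 = 1)) → b p = 0 := by
    intro p hp hcase
    set t := Fr.rep p with ht
    set k := ⁅x₀, d p⁆ with hk
    have hk3 : k ∈ Subgroup.upperCentralSeries T 3 := h.comm_mem hx₀ (hd p)
    -- conjugation by `t` fixes the commutator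
    have hfix : t * k * t⁻¹ = k := by
      have hy : t * d p * t⁻¹ ∈ W := h.normal.conj_mem _ (hd p) t
      have he : coord Fr μ (t * d p * t⁻¹) = coord Fr μ x₀ := by
        funext c
        rw [h.coord_conj Fr hμ (hd p), hdc, Fr.cc_rep, mulC_assoc, hx₀1]
        congr 1
        rw [show mulC p p = 0 by have := mulC_invC p; rwa [hp] at this,
          mulC_zero_right]
      have hp' : x₀⁻¹ * (t * d p * t⁻¹) ∈ phi W := by
        refine h.mem_phi_of_coord Fr hμ (mul_mem (inv_mem hx₀) hy) ?_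
        rw [h.coord_add Fr hμ (inv_mem hx₀) hy, h.coord_inv Fr hμ hx₀, he]
        funext c
        exact CharTwo.add_self_eq_zero _
      have e1 : t * k * t⁻¹ = ⁅d p, t * d p * t⁻¹⁆ := by
        simp only [hk, d, ht, commutatorElement_def]; group
      have e2 : ⁅d p, t * d p * t⁻¹⁆ = ⁅d p, x₀⁆ * ⁅d p, x₀⁻¹ * (t * d p * t⁻¹)⁆ := by
        rw [← h.comm_right (hd p) hx₀ (phi_le W hp'), mul_inv_cancel_left]
      rw [e1, e2, commutatorElement_eq_one_iff_mul_comm.2 (h.comm_phi (hd p) hp').symm, mul_one,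
        ← commutatorElement_inv, hk, inv_eq_iff_mul_eq_one, ← pow_two]
      exact h.phi_sq (h.phi_eq.symm ▸ hk3)
    obtain ⟨v, hv⟩ := Fr.E_surj k hk3
    rw [← hv, Fr.cc_conj, Fr.cc_rep] at hfix
    have hv' := Fr.E_inj hfix
    show top k = 0
    rw [← hv, h.top_E Fr]
    have : ∀ v p' : C, (p'.2.1 = 1 ∨ (p'.1 = 0 ∧ p'.2.2 = 1)) → actC p' v = v → v.1 = 0 := by decide
    exact this v p hcase hv'
  -- every element is in the span of the conjugates of `x₀`
  have span : ∀ w ∈ W, β x₀ w = ∑ p, coord Fr μ w (invC p) * b p := by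
    intro w hw
    let P : (C → ZMod 2) → Prop := fun g => ∃ u ∈ W, coord Fr μ u = g ∧
      β x₀ u = ∑ p, g (invC p) * b p
    have hP : P (∑ c, fun c' => if c' = c then coord Fr μ w c else 0) := by
      refine Finset.sum_induction _ P ?_ ?_ fun c _ => ?_
      · rintro g g' ⟨u, hu, rfl, hu2⟩ ⟨u', hu', rfl, hu2'⟩
        exact ⟨u * u', mul_mem hu hu', h.coord_add Fr hμ hu hu', by
          rw [β_right hx₀ hu hu', hu2, hu2', ← Finset.sum_add_distrib]
          exact Finset.sum_congr rfl fun p _ => by rw [Pi.add_apply, add_mul]⟩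
      · exact ⟨1, one_mem _, h.coord_one Fr hμ, by simp [β, top_one]⟩
      · have h2 : ∀ x : ZMod 2, x = 0 ∨ x = 1 := by decide
        rcases h2 (coord Fr μ w c) with hc0 | hc1
        · exact ⟨1, one_mem _, by rw [h.coord_one Fr hμ]; funext c'; simp [hc0], by
            simp [β, top_one, hc0]⟩
        · refine ⟨d (invC c), hd _, ?_, ?_⟩
          · funext c'
            rw [hdc, hc1]
            have : ∀ c' c : C, mulC c' (invC c) = 0 ↔ c' = c := by decide
            simp [this]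
          · rw [Finset.sum_eq_single (invC c)]
            · simp [b, hc1, invC_invC]
            · intro p _ hp
              have : invC p ≠ c := fun e => hp (by rw [← e, invC_invC])
              simp [this]
            · simp
    obtain ⟨u, hu, hug, hu2⟩ := hP
    have hg : (∑ c, fun c' => if c' = c then coord Fr μ w c else 0) = coord Fr μ w := by
      funext c'; simp [Finset.sum_apply]
    rw [hg] at hug hu2
    rw [← β_cong hx₀ hu hw hug, hu2]
  have hsum : (∑ p, b p) = 0 := by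
    have h1 := span z₀ hz₀
    rw [hz₀1, β_symm, hz₀R.2 x₀ hx₀] at h1
    simpa using h1.symm
  have hpair := pair_bit b hb0 hbinv hbfix hsum
  have hER : ∀ p, d p * d (mulC p (0, 0, 1)) ∈ R₀ := by
    intro p
    refine ⟨mul_mem (hd _) (hd _), fun y hy => ?_⟩
    rw [β_left (hd _) (hd _) hy]
    have expand : ∀ q, β (d q) y = ∑ r, coord Fr μ y (invC r) * b (mulC (invC q) r) := by
      intro q
      have hy' : (Fr.rep q)⁻¹ * y * Fr.rep q ∈ W := by
        simpa using h.normal.conj_mem y hy (Fr.rep q)⁻¹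
      have h1 := β_conj (Fr.rep q) x₀ ((Fr.rep q)⁻¹ * y * Fr.rep q)
      rw [show Fr.rep q * ((Fr.rep q)⁻¹ * y * Fr.rep q) * (Fr.rep q)⁻¹ = y by group] at h1
      rw [h1, span _ hy']
      refine Fintype.sum_equiv ⟨fun r => mulC q r, fun r => mulC (invC q) r,
        fun r => by simp [← mulC_assoc, invC_mulC, mulC_zero_left],
        fun r => by simp [← mulC_assoc, mulC_invC, mulC_zero_left]⟩ _ _ fun r => ?_
      simp only [Equiv.coe_fn_mk]
      rw [show (Fr.rep q)⁻¹ * y * Fr.rep q = (Fr.rep q)⁻¹ * y * ((Fr.rep q)⁻¹)⁻¹ by rw [inv_inv],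
        h.coord_conj Fr hμ hy, Fr.cc_inv, Fr.cc_rep, ← mulC_assoc, invC_mulC, mulC_zero_left]
      have : ∀ q r : C, mulC (invC r) (invC q) = invC (mulC q r) := by decide
      rw [this]
    rw [expand, expand, ← Finset.sum_add_distrib]
    refine Finset.sum_eq_zero fun r _ => ?_
    rw [← mul_add]
    have : ∀ p r : C, mulC (invC (mulC p (0, 0, 1))) r = mulC (0, 0, 1) (mulC (invC p) r) := by decide
    rw [this, hpair, mul_zero]
  -- the radical has index at most 16
  let g : ↥W →* Multiplicative (ZMod 2 × ZMod 2 → ZMod 2) :=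
    { toFun := fun w => Multiplicative.ofAdd fun e =>
        coord Fr μ w (e.1, e.2, 0) + coord Fr μ w (e.1, e.2, 1)
      map_one' := by
        apply Multiplicative.toAdd.injective
        funext e
        simp [h.coord_one Fr hμ]
      map_mul' := fun u v => by
        apply Multiplicative.toAdd.injective
        funext e
        simp only [toAdd_ofAdd, toAdd_mul, Pi.add_apply, coe_mul, h.coord_add Fr hμ u.2 v.2]
        ring }
  have hgR : g.ker ≤ R₀.subgroupOf W := by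
    intro w hw
    have hinv : ∀ c : C, coord Fr μ w (c.1, c.2.1, 1) = coord Fr μ w (c.1, c.2.1, 0) := fun c =>
      add_eq_zero' _ _ (congrFun (congrArg Multiplicative.toAdd hw) (c.1, c.2.1))
    let P : (C → ZMod 2) → Prop := fun f => ∃ u ∈ R₀, coord Fr μ u = f
    let term : ZMod 2 × ZMod 2 → C → ZMod 2 := fun e c' =>
      if (c'.1, c'.2.1) = e then coord Fr μ w (e.1, e.2, 0) else 0
    have hP : P (∑ e, term e) := by
      refine Finset.sum_induction _ P ?_ ?_ fun e _ => ?_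
      · rintro f f' ⟨u, hu, rfl⟩ ⟨u', hu', rfl⟩
        exact ⟨u * u', mul_mem hu hu', h.coord_add Fr hμ hu.1 hu'.1⟩
      · exact ⟨1, one_mem _, h.coord_one Fr hμ⟩
      · have h2 : ∀ x : ZMod 2, x = 0 ∨ x = 1 := by decide
        rcases h2 (coord Fr μ w (e.1, e.2, 0)) with h0 | h1
        · exact ⟨1, one_mem _, by rw [h.coord_one Fr hμ]; funext c'; simp [term, h0]⟩
        · refine ⟨_, hER (invC (e.1, e.2, 0)), ?_⟩
          funext c'
          rw [h.coord_add Fr hμ (hd _) (hd _), Pi.add_apply, hdc, hdc]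
          simp only [term, h1]
          exact pair_indicator e c'

    obtain ⟨u, hu, hue⟩ := hP
    have hs : (∑ e, term e) = coord Fr μ w := by
      funext c
      simp only [Finset.sum_apply, term, Finset.sum_ite_eq, Finset.mem_univ, if_true]
      rcases (by decide : ∀ x : ZMod 2, x = 0 ∨ x = 1) c.2.2 with hc2 | hc2
      · rw [← hc2]
      · rw [← hinv c, ← hc2]
    rw [hs] at hue
    have hp : u⁻¹ * (w : T) ∈ phi W := by
      refine h.mem_phi_of_coord Fr hμ (mul_mem (inv_mem hu.1) w.2) ?_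
      rw [h.coord_add Fr hμ (inv_mem hu.1) w.2, h.coord_inv Fr hμ hu.1, hue]
      funext c
      exact CharTwo.add_self_eq_zero _
    have := mul_mem hu (hphiR hp)
    rwa [mul_inv_cancel_left] at this
  have hidx : (R₀.subgroupOf W).index ≤ 16 := by
    refine le_trans (Nat.le_of_dvd ?_ (index_dvd_of_le hgR)) ?_
    · exact Nat.pos_of_ne_zero index_ne_zero_of_finite
    · rw [index_ker]
      refine le_trans (Finite.card_subtype_le _) ?_
      rw [Nat.card_congr Multiplicative.toAdd, Nat.card_pi]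
      simp
  obtain ⟨e3, he3, he3'⟩ := h.exists_gen (i := 2) (by norm_num)
  refine h.quad.no_radical (h.pgroup.to_subgroup W)
    ((Subgroup.upperCentralSeries T 2).subgroupOf W) (R₀.subgroupOf W)
    (z := ⟨e3, h.ucs_le he3⟩) ?_ he3' ?_ ?_ ?_ hidx ?_
  · exact (mem_phi_iff _).1 (h.phi_eq.symm ▸ he3)
  · intro u hu
    exact (mem_phi_iff u.2).1 (h.phi_eq.symm ▸
      Subgroup.upperCentralSeries_mono T (by norm_num : 2 ≤ 3) hu)
  · intro u hu v hv hu' hv'
    have hu3 : (u : T) ∈ Subgroup.upperCentralSeries T 3 := h.phi_eq ▸ (mem_phi_iff u.2).2 hu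
    have hv3 : (v : T) ∈ Subgroup.upperCentralSeries T 3 := h.phi_eq ▸ (mem_phi_iff v.2).2 hv
    have h1 := h.ucs_step (by norm_num : 2 < 4) (inv_mem hu3) hv3
      (fun hm => hu' (mem_subgroupOf.2 (inv_mem_iff.1 hm))) (fun hm => hv' (mem_subgroupOf.2 hm))
    rw [inv_inv] at h1
    exact h1
  · intro u hu
    exact hphiR ((mem_phi_iff u.2).2 hu)
  · intro r hr s
    have h1 := hr.2 (s : T) s.2
    by_contra hn
    simp only [β, top, coe_subtype] at h1
    split at h1
    · rename_i hm; exact hn hm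
    · exact one_ne_zero h1

end CfsgLib.Rudvalis
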