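import Cfsg.Agent.Solvable.PGroupBasic

/-!
The small terms of the upper central series of a finite 2-group whose fourth centre has order 16.
-/

set_option autoImplicit false
set_option linter.style.haveILetI false

namespace CfsgLib.Rudvalis

open Subgroup
open scoped commutatorElement

variable {T : Type*} [Group T] [Finite T]

theorem card_ucs (hT : IsPGroup 2 T) (ha : 16 < Nat.card T)
    (hb : Nat.card ↥(Subgroup.upperCentralSeries T 4) = 16) :
    ∀ i ≤ 4, Nat.card ↥(Subgroup.upperCentralSeries T i) = 2 ^ i := by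
  haveI : Group.IsNilpotent T := hT.isNilpotent
  haveI : Fact (Nat.Prime 2) := ⟨Nat.prime_two⟩
  have hne : ∀ i ≤ 4, Subgroup.upperCentralSeries T i ≠ ⊤ := by
    intro i hi h
    have : Subgroup.upperCentralSeries T 4 = ⊤ :=
      top_unique (h ▸ Subgroup.upperCentralSeries_mono T hi)
    rw [this, card_top] at hb
    omega
  have step : ∀ i < 4, 2 * Nat.card ↥(Subgroup.upperCentralSeries T i) ≤
      Nat.card ↥(Subgroup.upperCentralSeries T (i + 1)) := by
    intro i hi
    obtain ⟨x, -, hx, hc⟩ := CfsgLib.PGroupBasic.exists_central_mod (Subgroup.upperCentralSeries T i) ⊤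
      (lt_top_iff_ne_top.2 (hne i hi.le))
    have hle := Subgroup.upperCentralSeries_mono T (Nat.le_succ i)
    have hx1 : x ∈ Subgroup.upperCentralSeries T (i + 1) :=
      Subgroup.mem_upperCentralSeries_succ_iff.2 fun y => by rw [commutatorElement_def]; exact hc y
    obtain ⟨k, hk⟩ := IsPGroup.iff_card.1 (hT.to_subgroup (Subgroup.upperCentralSeries T i))
    obtain ⟨m, hm⟩ := IsPGroup.iff_card.1 (hT.to_subgroup (Subgroup.upperCentralSeries T (i + 1)))
    have hlt : 2 ^ k < 2 ^ m := by
      rw [← hk, ← hm]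
      rcases lt_or_eq_of_le (card_le_of_le hle) with h | h
      · exact h
      · exact absurd hx1 ((eq_of_le_of_card_ge hle h.ge) ▸ hx)
    have : k < m := (Nat.pow_lt_pow_iff_right (by norm_num)).1 hlt
    calc 2 * Nat.card ↥(Subgroup.upperCentralSeries T i) = 2 ^ (k + 1) := by rw [hk, pow_succ]; ring
      _ ≤ 2 ^ m := Nat.pow_le_pow_right (by norm_num) this
      _ = _ := hm.symm
  have h0 : Nat.card ↥(Subgroup.upperCentralSeries T 0) = 1 := by
    rw [Subgroup.upperCentralSeries_zero, card_bot]
  have s0 := step 0 (by norm_num)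
  have s1 := step 1 (by norm_num)
  have s2 := step 2 (by norm_num)
  have s3 := step 3 (by norm_num)
  intro i hi
  interval_cases i <;> norm_num at * <;> omega

theorem le_ucs_of_card_le (hT : IsPGroup 2 T) :
    ∀ (i : ℕ) (N : Subgroup T), N.Normal → Nat.card N ≤ 2 ^ i →
      N ≤ Subgroup.upperCentralSeries T i := by
  haveI : Group.IsNilpotent T := hT.isNilpotent
  intro i
  induction i with
  | zero =>
    intro N _ h
    rw [Subgroup.upperCentralSeries_zero]
    have : Nat.card N = 1 := le_antisymm (by simpa using h) Nat.card_pos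
    exact (card_eq_one.1 this).le
  | succ i ih =>
    intro N hN h
    by_cases hN1 : N = ⊥
    · rw [hN1]; exact bot_le
    haveI : Fact (Nat.Prime 2) := ⟨Nat.prime_two⟩
    have hlt : ⁅N, (⊤ : Subgroup T)⁆ < N := by
      refine lt_of_le_of_ne (commutator_le_left N ⊤) fun heq => hN1 ?_
      obtain ⟨n, hn⟩ := Group.IsNilpotent.nilpotent (G := T)
      have : ∀ j, N ≤ Subgroup.upperCentralSeries T j → N = ⊥ := by
        intro j
        induction j with
        | zero => intro hj; rw [Subgroup.upperCentralSeries_zero] at hj; exact le_bot_iff.1 hj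
        | succ j ihj =>
          intro hj
          refine ihj (heq ▸ ?_)
          exact (commutator_mono hj le_rfl).trans (commutator_upperCentralSeries_top_le T j)
      exact this n (hn ▸ le_top)
    obtain ⟨k, hk⟩ := IsPGroup.iff_card.1 (hT.to_subgroup ⁅N, (⊤ : Subgroup T)⁆)
    obtain ⟨m, hm⟩ := IsPGroup.iff_card.1 (hT.to_subgroup N)
    have hkm : k < m := by
      refine (Nat.pow_lt_pow_iff_right (le_refl 2)).1 ?_
      rw [← hk, ← hm]
      rcases lt_or_eq_of_le (card_le_of_le hlt.le) with h' | h'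
      · exact h'
      · exact absurd (eq_of_le_of_card_ge hlt.le h'.ge) hlt.ne
    have hmi : m ≤ i + 1 := (Nat.pow_le_pow_iff_right (le_refl 2)).1 (hm ▸ h)
    have h2 := ih ⁅N, (⊤ : Subgroup T)⁆ inferInstance
      (hk ▸ Nat.pow_le_pow_right (by norm_num) (by omega))
    intro x hx
    exact Subgroup.mem_upperCentralSeries_succ_iff.2 fun y =>
      h2 (commutator_mem_commutator hx (mem_top y))

theorem succ_le_of_lt (hT : IsPGroup 2 T) (ha : 16 < Nat.card T)
    (hb : Nat.card ↥(Subgroup.upperCentralSeries T 4) = 16) {i : ℕ} (hi : i < 4) (N : Subgroup T)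
    [N.Normal] (hlt : Subgroup.upperCentralSeries T i < N) :
    Subgroup.upperCentralSeries T (i + 1) ≤ N := by
  haveI : Group.IsNilpotent T := hT.isNilpotent
  haveI : Fact (Nat.Prime 2) := ⟨Nat.prime_two⟩
  obtain ⟨x, hxN, hx, hc⟩ := CfsgLib.PGroupBasic.exists_central_mod _ N hlt
  have hx1 : x ∈ Subgroup.upperCentralSeries T (i + 1) :=
    Subgroup.mem_upperCentralSeries_succ_iff.2 fun y => by rw [commutatorElement_def]; exact hc y
  have h1 := card_ucs hT ha hb i (by omega)
  have h2 := card_ucs hT ha hb (i + 1) hi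
  have hle : Subgroup.upperCentralSeries T i ≤ N ⊓ Subgroup.upperCentralSeries T (i + 1) :=
    le_inf hlt.le (Subgroup.upperCentralSeries_mono T (Nat.le_succ i))
  obtain ⟨m, hm⟩ := IsPGroup.iff_card.1
    (hT.to_subgroup (N ⊓ Subgroup.upperCentralSeries T (i + 1)))
  have him : i < m := by
    refine (Nat.pow_lt_pow_iff_right (le_refl 2)).1 ?_
    rw [← hm, ← h1]
    rcases lt_or_eq_of_le (card_le_of_le hle) with h | h
    · exact h
    · exact absurd ((eq_of_le_of_card_ge hle h.ge).symm ▸ ⟨hxN, hx1⟩ :
        x ∈ Subgroup.upperCentralSeries T i) hx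
  have := eq_of_le_of_card_ge (inf_le_right : N ⊓ Subgroup.upperCentralSeries T (i + 1) ≤ _)
    (by rw [h2, hm]; exact Nat.pow_le_pow_right (by norm_num) him)
  exact this ▸ inf_le_left

end CfsgLib.Rudvalis
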