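import Cfsg.Agent.FGSB.Rudvalis.Main
import Cfsg.Agent.Solvable.Basics

/-!
In a 2-group of Rudvalis type, `W` is the only subgroup isomorphic to `W`.
-/

set_option autoImplicit false
set_option linter.unusedSectionVars false
set_option linter.style.haveILetI false

namespace CfsgLib.Rudvalis

open Subgroup
open scoped commutatorElement

variable {T : Type*} [Group T] [Finite T] {W : Subgroup T}

private theorem sq_sq : ∀ c : C, mulC (mulC c c) (mulC c c) = 0 := by decide

private theorem inv_count : ∀ p : C, p ≠ 0 → mulC p p = 0 →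
    Fintype.card {g : C → Bool // ∀ c, g (mulC c p) = g c} ≤ 16 := by
  decide

private theorem span_fixed : ∀ b c : ZMod 2, ∀ v : C,
    v = (if v.1 = 1 then ((1 : ZMod 2), b, c) else 0) +
      ((if v.2.1 + v.1 * b = 1 then ((0 : ZMod 2), (1 : ZMod 2), (0 : ZMod 2)) else 0) +
        (if v.2.2 + v.1 * c = 1 then ((0 : ZMod 2), (0 : ZMod 2), (1 : ZMod 2)) else 0)) := by
  decide

private theorem eq_of_add_two : ∀ {x y : ZMod 2}, x + y = 0 → x = y := by decide

/-- Shift-invariant coordinate functions are at most 16. -/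
theorem card_invariant (p : C) (hp : p ≠ 0) (hp2 : mulC p p = 0) :
    Nat.card {g : C → ZMod 2 // ∀ c, g (mulC c p) = g c} ≤ 16 := by
  classical
  have e : ZMod 2 ≃ Bool := finTwoEquiv
  refine le_trans (le_of_eq (Nat.card_congr (((Equiv.refl C).arrowCongr e).subtypeEquiv ?_)))
    (le_trans (Nat.card_eq_fintype_card).le (inv_count p hp hp2))
  intro g
  simp [Equiv.arrowCongr]

theorem Rud.eq_of_mulEquiv (h : Rud W) (X : Subgroup T) (e : ↥W ≃* ↥X) : X = W := by
  classical
  haveI := h.normal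
  obtain ⟨Fr⟩ := h.nonempty_frame
  obtain ⟨μ, hμ⟩ := h.exists_fun (le_refl 3) h.phi_eq
  by_contra hne
  have hcW : Nat.card W = 2 ^ 11 := h.card_facts.2.2.1
  have hcX : Nat.card X = 2 ^ 11 := (Nat.card_congr e.toEquiv).symm.trans hcW
  -- facts on the derived subgroup of `X`
  have hcomm : (commutator ↥W).map e.toMonoidHom = commutator ↥X := by
    rw [_root_.commutator, _root_.commutator, map_commutator,
      map_top_of_surjective _ e.surjective]
  let Ψ := (commutator ↥X).map X.subtype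
  have hΨX : Ψ ≤ X := map_subtype_le _
  have hΨc : Nat.card Ψ = 8 := by
    rw [card_map_of_injective X.subtype_injective, ← hcomm,
      card_map_of_injective (f := e.toMonoidHom) e.injective, ← h.frattini_eq_commutator]
    exact h.card_phi
  have hΨcomm : ∀ a ∈ X, ∀ b ∈ X, ⁅a, b⁆ ∈ Ψ := fun a ha b hb =>
    ⟨⁅⟨a, ha⟩, ⟨b, hb⟩⁆, Subgroup.commutator_mem_commutator (mem_top _) (mem_top _), rfl⟩
  have hΨcen : ∀ z ∈ Ψ, ∀ x ∈ X, x * z = z * x := by
    rintro _ ⟨z, hz, rfl⟩ x hx
    rw [← hcomm] at hz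
    obtain ⟨w, hw, rfl⟩ := hz
    rw [← h.frattini_eq_commutator] at hw
    have h1 := congrArg e (h.quad.central w hw (e.symm ⟨x, hx⟩))
    rw [map_mul, map_mul, e.apply_symm_apply] at h1
    exact (congrArg Subtype.val h1).symm
  let U := W ⊓ X
  have hU8 : 2 ^ 8 ≤ Nat.card U := by
    have hn : X ≤ normalizer (W : Set T) := le_normalizer_of_normal
    have h1 := CfsgLib.Solvable.card_sup_mul_card_inf hn
    rw [hcX, hcW] at h1
    have h2 : Nat.card ↥(X ⊔ W) ≤ 2 ^ 14 := h.card_facts.2.2.2 ▸ card_le_card_group _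
    have h3 : Nat.card ↥(X ⊔ W) * Nat.card ↥(X ⊓ W) ≤ 2 ^ 14 * Nat.card ↥(X ⊓ W) :=
      Nat.mul_le_mul_right _ h2
    show 2 ^ 8 ≤ Nat.card ↥(W ⊓ X)
    rw [inf_comm]
    omega
  have hΦU : phi W ≤ U := by
    have hidx : (U.subgroupOf W).index ≤ 16 := by
      have h1 := card_mul_index (U.subgroupOf W)
      rw [hcW, Nat.card_congr (subgroupOfEquivOfLe (inf_le_left : U ≤ W)).toEquiv] at h1
      nlinarith
    rintro _ ⟨a, ha, rfl⟩
    exact h.thin _ hidx ha
  have hΨU : Ψ ≤ U := by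
    have hidx : (((U.subgroupOf X).comap e.toMonoidHom)).index ≤ 16 := by
      rw [index_comap_of_surjective _ e.surjective]
      have h1 := card_mul_index (U.subgroupOf X)
      rw [hcX, Nat.card_congr (subgroupOfEquivOfLe (inf_le_right : U ≤ X)).toEquiv] at h1
      nlinarith
    rintro _ ⟨a, ha, rfl⟩
    rw [← hcomm] at ha
    obtain ⟨w, hw, rfl⟩ := ha
    exact h.thin _ hidx (h.frattini_eq_commutator.symm ▸ hw)
  let D := phi W ⊓ Ψ
  have hD : ∀ x ∈ X, ∀ z ∈ phi W, ⁅z, x⁆ ∈ D := fun x hx z hz =>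
    ⟨h.phi_eq.symm ▸ Subgroup.upperCentralSeries_mono T (by norm_num : 2 ≤ 3)
        (Subgroup.mem_upperCentralSeries_succ_iff.1 (h.phi_eq ▸ hz) x),
      hΨcomm z (hΦU hz).2 x hx⟩
  have hmemW : ∀ t : T, (∀ z ∈ phi W, ⁅z, t⁆ = 1) → t ∈ W := fun t ht =>
    (SetLike.ext_iff.1 h.w_eq t).2 (mem_centralizer_iff.2 fun z hz =>
      commutatorElement_eq_one_iff_mul_comm.1 (ht z (h.phi_eq.symm ▸ hz)))
  obtain ⟨h₀, hh₀, hh₀W⟩ : ∃ x ∈ X, x ∉ W := by
    by_contra hc
    push Not at hc
    exact hne (eq_of_le_of_card_ge hc (by rw [hcX, hcW]))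
  have hD1 : D ≠ ⊥ := by
    intro hb
    refine hh₀W (hmemW h₀ fun z hz => ?_)
    have := hD h₀ hh₀ z hz
    rwa [hb, mem_bot] at this
  -- the image of `Ψ` modulo `Φ`
  let ψ : ↥Ψ →* Multiplicative (C → ZMod 2) :=
    { toFun := fun w => Multiplicative.ofAdd (coord Fr μ w)
      map_one' := by
        apply Multiplicative.toAdd.injective
        simp [h.coord_one Fr hμ]
      map_mul' := fun a b => by
        apply Multiplicative.toAdd.injective
        simp [h.coord_add Fr hμ (hΨU a.2).1 (hΨU b.2).1] }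
  have hψker : Nat.card ψ.ker = Nat.card D := by
    have : ψ.ker = D.subgroupOf Ψ := by
      ext w
      rw [MonoidHom.mem_ker, mem_subgroupOf]
      exact ⟨fun h1 => ⟨h.mem_phi_of_coord Fr hμ (hΨU w.2).1 (congrArg Multiplicative.toAdd h1), w.2⟩,
        fun h1 => congrArg Multiplicative.ofAdd (h.coord_phi Fr hμ h1.1)⟩
    rw [this, Nat.card_congr (subgroupOfEquivOfLe (inf_le_right : D ≤ Ψ)).toEquiv]
  have hψ : Nat.card D * Nat.card ψ.range = 8 := by
    rw [← hψker, ← index_ker, card_mul_index, hΨc]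
  have hD2 : 2 ≤ Nat.card D := by
    by_contra hc
    exact hD1 (card_eq_one.1 (by have := Nat.card_pos (α := D); omega))
  -- the main count
  have count : ∀ x ∈ X, x ∉ W → x * x ∈ W →
      Nat.card U ≤ 2 ^ 7 * Nat.card ψ.range ∧
      (2 ^ 7 * Nat.card ψ.range ≤ Nat.card U → ∀ w ∈ W,
        (∀ c, coord Fr μ w (mulC c (Fr.cc x)) = coord Fr μ w c) → w ∈ U) := by
    intro x hx hxW hx2
    have hp : Fr.cc x ≠ 0 := fun h0 => hxW ((Fr.mem_iff x).2 h0)
    have hp2 : mulC (Fr.cc x) (Fr.cc x) = 0 := by rw [← Fr.cc_mul]; exact (Fr.mem_iff _).1 hx2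
    let K : Subgroup T :=
      { carrier := {w | w ∈ W ∧ ∀ c, coord Fr μ w (mulC c (Fr.cc x)) = coord Fr μ w c}
        one_mem' := ⟨one_mem _, fun c => by rw [h.coord_one Fr hμ]; rfl⟩
        mul_mem' := fun {a b} ha hb => ⟨mul_mem ha.1 hb.1, fun c => by
          rw [h.coord_add Fr hμ ha.1 hb.1, Pi.add_apply, Pi.add_apply, ha.2, hb.2]⟩
        inv_mem' := fun {a} ha => ⟨inv_mem ha.1, fun c => by
          rw [h.coord_inv Fr hμ ha.1]; exact ha.2 c⟩ }
    have hK : Nat.card K ≤ 2 ^ 7 := by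
      let κ : ↥K →* Multiplicative (C → ZMod 2) :=
        { toFun := fun w => Multiplicative.ofAdd (coord Fr μ w)
          map_one' := by
            apply Multiplicative.toAdd.injective
            simp [h.coord_one Fr hμ]
          map_mul' := fun a b => by
            apply Multiplicative.toAdd.injective
            simp [h.coord_add Fr hμ a.2.1 b.2.1] }
      have h1 : Nat.card κ.ker ≤ 8 := by
        let f : κ.ker → ↥(Subgroup.upperCentralSeries T 3) := fun w => ⟨w.1.1, h.phi_eq ▸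
          h.mem_phi_of_coord Fr hμ w.1.2.1 (congrArg Multiplicative.toAdd w.2)⟩
        have := Nat.card_le_card_of_injective f fun a b hab =>
          Subtype.ext (Subtype.ext (congrArg Subtype.val hab :))
        rwa [h.card_ucs 3 (by norm_num)] at this
      have h2 : Nat.card κ.range ≤ 16 := by
        refine le_trans ?_ (card_invariant _ hp hp2)
        let f : κ.range → {g : C → ZMod 2 // ∀ c, g (mulC c (Fr.cc x)) = g c} := fun v =>
          ⟨Multiplicative.toAdd v.1, by obtain ⟨w, hw⟩ := v.2; rw [← hw]; exact w.2.2⟩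
        exact Nat.card_le_card_of_injective f fun a b hab => Subtype.ext
          (Multiplicative.toAdd.injective (congrArg Subtype.val hab :))
      rw [← card_mul_index κ.ker, index_ker]
      calc _ ≤ 8 * 16 := Nat.mul_le_mul h1 h2
        _ = _ := by norm_num
    let χ : ↥U →* Multiplicative (C → ZMod 2) :=
      { toFun := fun w => Multiplicative.ofAdd (fun c =>
          coord Fr μ w (mulC c (Fr.cc x)) + coord Fr μ w c)
        map_one' := by
          apply Multiplicative.toAdd.injective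
          funext c
          simp [h.coord_one Fr hμ]
        map_mul' := fun a b => by
          apply Multiplicative.toAdd.injective
          funext c
          simp only [toAdd_ofAdd, toAdd_mul, Pi.add_apply, coe_mul, h.coord_add Fr hμ a.2.1 b.2.1]
          ring }
    have hrange : χ.range ≤ ψ.range := by
      rintro _ ⟨u, rfl⟩
      refine ⟨⟨⁅x, (u : T)⁆, hΨcomm x hx _ u.2.2⟩, congrArg Multiplicative.ofAdd (funext fun c => ?_)⟩
      show coord Fr μ ⁅x, (u : T)⁆ c = _
      rw [commutatorElement_def, h.coord_add Fr hμ (h.normal.conj_mem _ u.2.1 x) (inv_mem u.2.1),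
        h.coord_inv Fr hμ u.2.1, Pi.add_apply, h.coord_conj Fr hμ u.2.1]
    have hker : χ.ker.map U.subtype ≤ K := by
      rintro _ ⟨u, hu, rfl⟩
      refine ⟨u.2.1, fun c => ?_⟩
      have := congrFun (congrArg Multiplicative.toAdd hu) c
      exact eq_of_add_two this
    have hk1 : Nat.card χ.ker ≤ Nat.card K := by
      rw [← card_map_of_injective (f := U.subtype) U.subtype_injective]
      exact card_le_of_le hker
    have hmain : Nat.card U = Nat.card χ.ker * Nat.card χ.range := by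
      rw [← index_ker, card_mul_index]
    have hr := card_le_of_le hrange
    refine ⟨hmain ▸ Nat.mul_le_mul (hk1.trans hK) hr, fun hfull w hw hwinv => ?_⟩
    have hkeq : Nat.card K ≤ Nat.card χ.ker := by
      have h1 : 2 ^ 7 * Nat.card ψ.range ≤ Nat.card χ.ker * Nat.card ψ.range :=
        (hfull.trans_eq hmain).trans (Nat.mul_le_mul_left _ hr)
      exact hK.trans (Nat.le_of_mul_le_mul_right h1 Nat.card_pos)
    have heq : χ.ker.map U.subtype = K := eq_of_le_of_card_ge hker
      (by rw [card_map_of_injective U.subtype_injective]; exact hkeq)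
    obtain ⟨u, -, hu⟩ : w ∈ χ.ker.map U.subtype := heq ▸ (⟨hw, hwinv⟩ : w ∈ K)
    exact hu ▸ u.2
  -- exclude a full image
  have hU9 : 2 ^ 9 ≤ Nat.card U := by
    by_contra hc
    push Not at hc
    have hU : Nat.card U = 2 ^ 8 := by
      obtain ⟨k, hk⟩ := IsPGroup.iff_card.1 (h.pgroup.to_subgroup U)
      rw [hk] at hU8 hc ⊢
      have h8 := (Nat.pow_le_pow_iff_right (le_refl 2)).1 hU8
      have h9 := (Nat.pow_lt_pow_iff_right (le_refl 2)).1 hc
      rw [show k = 8 by omega]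
    have hsup : X ⊔ W = ⊤ := by
      have h1 := CfsgLib.Solvable.card_sup_mul_card_inf (le_normalizer_of_normal : X ≤ normalizer (W : Set T))
      rw [hcX, hcW, inf_comm, show Nat.card ↥(W ⊓ X) = 2 ^ 8 from hU] at h1
      refine eq_top_of_card_eq _ ?_
      rw [h.card_facts.2.2.2]
      omega
    have hDZ : D ≤ Subgroup.upperCentralSeries T 1 := by
      intro d hd
      rw [Subgroup.upperCentralSeries_one, mem_center_iff]
      intro t
      have hle : X ⊔ W ≤ centralizer {d} := sup_le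
        (fun x hx => mem_centralizer_singleton_iff.2 (hΨcen d hd.2 x hx))
        (fun w hw => mem_centralizer_singleton_iff.2 (h.comm_phi hw hd.1).symm)
      exact mem_centralizer_singleton_iff.1 (hle (hsup ▸ mem_top t))
    obtain ⟨e3, he3, he3'⟩ := h.exists_gen (i := 2) (by norm_num)
    refine he3' (Subgroup.mem_upperCentralSeries_succ_iff.2 fun t => ?_)
    obtain ⟨x, hx, w, hw, rfl⟩ : ∃ x ∈ X, ∃ w ∈ W, x * w = t := by
      have ht : t ∈ X ⊔ W := hsup ▸ mem_top t
      exact mem_sup_of_normal_right.1 ht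
    have he3W : ⁅e3, w⁆ = 1 :=
      commutatorElement_eq_one_iff_mul_comm.2 (h.comm_phi hw (h.phi_eq.symm ▸ he3))
    rw [show ⁅e3, x * w⁆ = ⁅e3, x⁆ * (x * ⁅e3, w⁆ * x⁻¹) by simp only [commutatorElement_def]; group,
      he3W, mul_one, mul_inv_cancel, mul_one]
    exact hDZ (hD x hx e3 (h.phi_eq.symm ▸ he3))
  obtain ⟨h₁, hh₁, hh₁W, hh₁2⟩ : ∃ x ∈ X, x ∉ W ∧ x * x ∈ W := by
    by_cases h2 : h₀ * h₀ ∈ W
    · exact ⟨h₀, hh₀, hh₀W, h2⟩
    · exact ⟨h₀ * h₀, mul_mem hh₀ hh₀, h2, (Fr.mem_iff _).2 (by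
        rw [Fr.cc_mul, Fr.cc_mul]; exact sq_sq _)⟩
  have hc1 := (count h₁ hh₁ hh₁W hh₁2).1
  have hDc : Nat.card D = 2 ∧ Nat.card ψ.range = 4 ∧ Nat.card U = 2 ^ 9 := by
    have h4 : 4 ≤ Nat.card ψ.range := by omega
    have h5 : Nat.card D * 4 ≤ 8 := hψ ▸ Nat.mul_le_mul_left _ h4
    have h6 : Nat.card D = 2 := by omega
    rw [h6] at hψ
    refine ⟨h6, by omega, ?_⟩
    omega
  obtain ⟨hDc, hψc, hUc⟩ := hDc
  -- every element of `X` squares into `W`
  have hsq : ∀ x ∈ X, x * x ∈ W := by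
    intro x hx
    refine hmemW _ fun z hz => ?_
    have hd := hD x hx z hz
    have h1 : x * ⁅z, x⁆ * x⁻¹ = ⁅z, x⁆ := by rw [hΨcen _ hd.2 x hx, mul_inv_cancel_right]
    rw [show ⁅z, x * x⁆ = ⁅z, x⁆ * (x * ⁅z, x⁆ * x⁻¹) by simp only [commutatorElement_def]; group, h1,
      ← pow_two]
    exact h.phi_sq hd.1
  have hfull : ∀ x ∈ X, x ∉ W → ∀ w ∈ W,
      (∀ c, coord Fr μ w (mulC c (Fr.cc x)) = coord Fr μ w c) → w ∈ U := fun x hx hxW =>
    (count x hx hxW (hsq x hx)).2 (by rw [hψc, hUc]; norm_num)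
  -- commutators with `Ψ` are fixed by `X`
  have hfixed : ∀ ψ₀ ∈ Ψ, ∀ y ∈ W, ∀ x ∈ X, x * ⁅ψ₀, y⁆ * x⁻¹ = ⁅ψ₀, y⁆ := by
    intro ψ₀ hψ₀ y hy x hx
    by_cases hxW : x ∈ W
    · rw [← h.comm_phi hxW (h.commutator_mem_phi (hΨU hψ₀).1 hy), mul_inv_cancel_right]
    have hc : ⁅x, y⁆ ∈ U := by
      have hm : ⁅x, y⁆ ∈ W := by
        rw [commutatorElement_def]; exact mul_mem (h.normal.conj_mem y hy x) (inv_mem hy)
      refine hfull x hx hxW _ hm fun c => ?_
      rw [commutatorElement_def, h.coord_add Fr hμ (h.normal.conj_mem y hy x) (inv_mem hy),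
        h.coord_inv Fr hμ hy, Pi.add_apply, Pi.add_apply, h.coord_conj Fr hμ hy,
        h.coord_conj Fr hμ hy, mulC_assoc, ← Fr.cc_mul, (Fr.mem_iff _).1 (hsq x hx), mulC_zero_right]
      ring
    calc x * ⁅ψ₀, y⁆ * x⁻¹ = ⁅x * ψ₀ * x⁻¹, ⁅x, y⁆ * y⁆ := by
          simp only [commutatorElement_def]; group
      _ = ⁅ψ₀, ⁅x, y⁆ * y⁆ := by rw [hΨcen ψ₀ hψ₀ x hx, mul_inv_cancel_right]
      _ = ⁅ψ₀, y⁆ := by
          rw [h.comm_right (hΨU hψ₀).1 hc.1 hy,
            commutatorElement_eq_one_iff_mul_comm.2 (hΨcen ψ₀ hψ₀ _ hc.2).symm, one_mul]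
  -- fixed points of `X` on `Φ` lie in `Z₂`
  have hF : ∀ f ∈ phi W, (∀ x ∈ X, x * f * x⁻¹ = f) → f ∈ Subgroup.upperCentralSeries T 2 := by
    intro f hf hfx
    by_contra hf2
    obtain ⟨⟨a, b, c⟩, rfl⟩ := Fr.E_surj f (h.phi_eq ▸ hf)
    have ha : a = 1 := by
      rcases (by decide : ∀ a : ZMod 2, a = 0 ∨ a = 1) a with ha | ha
      · exact absurd ((Fr.E_two _).2 ha) hf2
      · exact ha
    subst ha
    let z := Fr.E (0, 1, 0)
    have hz : z ∈ phi W := h.phi_eq.symm ▸ Fr.E_mem _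
    have hcen : ∀ x : T, (∀ v : C, v = (1, b, c) ∨ v = (0, 1, 0) → x * Fr.E v * x⁻¹ = Fr.E v) →
        x ∈ W := by
      intro x hx
      have h1 : x * Fr.E (0, 0, 1) * x⁻¹ = Fr.E (0, 0, 1) := by
        have : Fr.E (0, 0, 1) ∈ center T := by
          rw [← Subgroup.upperCentralSeries_one]; exact (Fr.E_one _).2 ⟨rfl, rfl⟩
        rw [mem_center_iff.1 this x, mul_inv_cancel_right]
      have hE0 : Fr.E 0 = 1 := by
        have := Fr.E_add 0 0
        rw [add_zero] at this
        exact (left_eq_mul.1 this)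
      have hif : ∀ (P : Prop) [Decidable P] (v : C), x * Fr.E v * x⁻¹ = Fr.E v →
          x * Fr.E (if P then v else 0) * x⁻¹ = Fr.E (if P then v else 0) := by
        intro P _ v hv
        split
        · exact hv
        · rw [hE0, mul_one, mul_inv_cancel]
      refine hmemW x fun w hw => commutatorElement_eq_one_iff_mul_comm.2 ?_
      obtain ⟨v, rfl⟩ := Fr.E_surj w (h.phi_eq ▸ hw)
      have hv : x * Fr.E v * x⁻¹ = Fr.E v := by
        rw [span_fixed b c v]
        have cm : ∀ p q : T, x * (p * q) * x⁻¹ = (x * p * x⁻¹) * (x * q * x⁻¹) := fun p q => by group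
        simp only [Fr.E_add, cm]
        rw [hif _ _ (hx _ (Or.inl rfl)), hif _ _ (hx _ (Or.inr rfl)), hif _ _ h1]
      calc Fr.E v * x = x * Fr.E v * x⁻¹ * x := by rw [hv]
        _ = x * Fr.E v := by group
    have hcard : Nat.card X ≤ 2 * Nat.card U := by
      refine card_le_two_mul fun x hx y hy hxU hyU => ?_
      have hne1 : ∀ u ∈ X, u ∉ U → ⁅z, u⁆ ≠ 1 := by
        intro u hu huU h1
        refine huU ⟨hcen u ?_, hu⟩
        rintro v (rfl | rfl)
        · exact hfx u hu
        · rw [← commutatorElement_eq_one_iff_mul_comm.1 h1, mul_inv_cancel_right]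
      have hxy : ⁅z, x⁆ = ⁅z, y⁆ := by
        obtain ⟨a', b', hab, huniv⟩ := Nat.card_eq_two_iff.1 hDc
        have key : ∀ u : D, u ≠ 1 → ∀ v : D, v ≠ 1 → u = v := by
          intro u hu v hv
          have h1 : ∀ w : D, w = a' ∨ w = b' := fun w => by
            have := Set.mem_univ w
            rw [← huniv] at this
            simpa using this
          rcases h1 u with rfl | rfl <;> rcases h1 v with rfl | rfl <;> rcases h1 1 with e' | e' <;>
            first | rfl | exact absurd e'.symm hu | exact absurd e'.symm hv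
        exact congrArg Subtype.val (key ⟨_, hD x hx z hz⟩ (fun e' => hne1 x hx hxU (congrArg Subtype.val e'))
          ⟨_, hD y hy z hz⟩ (fun e' => hne1 y hy hyU (congrArg Subtype.val e')))
      refine mem_inf.2 ⟨hcen _ ?_, X.mul_mem (X.inv_mem hx) hy⟩
      rintro v (rfl | rfl)
      · exact hfx _ (mul_mem (inv_mem hx) hy)
      · have h1 : x * z * x⁻¹ = y * z * y⁻¹ := by
          have h2 : x * z⁻¹ * x⁻¹ = y * z⁻¹ * y⁻¹ := by
            simp only [commutatorElement_def] at hxy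
            simpa [mul_assoc] using congrArg (z⁻¹ * ·) hxy
          have := congrArg (·⁻¹) h2
          simpa [mul_assoc] using this
        calc x⁻¹ * y * z * (x⁻¹ * y)⁻¹ = x⁻¹ * (y * z * y⁻¹) * x := by group
          _ = z := by rw [← h1]; group
    rw [hcX, hUc] at hcard
    omega
  -- conclusion
  have hΨΦ : Ψ ≤ phi W := fun ψ₀ hψ₀ => h.nondegenerate (hΨU hψ₀).1 fun y hy =>
    hF _ (h.commutator_mem_phi (hΨU hψ₀).1 hy) (hfixed ψ₀ hψ₀ y hy)
  have hDΨ : D = Ψ := inf_eq_right.2 hΨΦ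
  rw [hDΨ, hΨc] at hDc
  omega

end CfsgLib.Rudvalis
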